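import Groth.Prelude.Def_W4c1chowmix47Eta
import Mathlib.Algebra.CharP.Reduced
import Mathlib.Algebra.CharP.Algebra
import Mathlib.RingTheory.Valuation.LocalSubring
import Mathlib.RingTheory.Ideal.GoingUp
import Mathlib.RingTheory.Ideal.MinimalPrime.Basic
import Mathlib.RingTheory.IntegralClosure.IntegrallyClosed
import Mathlib.Algebra.GCDMonoid.IntegrallyClosed

/-! Theory of the pointwise construction `EtaPt`. -/

set_option linter.style.haveILetI false

universe u

namespace Groth.Agent.EtaPtLib.Basic

open EtaPt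

variable (η : FieldEndo.{u})

section Fields

variable {K L E : Type u} [Field K] [Field L] [Field E]

theorem ringExpChar_eq (f : K →+* L) : ringExpChar L = ringExpChar K :=
  haveI := expChar_of_injective_ringHom f.injective (ringExpChar K)
  ringExpChar.eq L _

theorem map_eta (f : K →+* L) (x : K) : η.map f (η.eta K x) = η.eta L (f x) :=
  RingHom.congr_fun (η.eta_natural f) x

theorem pow_inj (n : ℕ) {x y : K} (h : x ^ ringExpChar K ^ n = y ^ ringExpChar K ^ n) : x = y :=
  iterateFrobenius_inj K (ringExpChar K) n (by simpa [iterateFrobenius_def] using h)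

theorem hom_ext_eta {g₁ g₂ : η.obj K →+* E}
    (h : g₁.comp (η.eta K) = g₂.comp (η.eta K)) : g₁ = g₂ := by
  ext x
  obtain ⟨n, a, ha⟩ := η.exists_pow_mem_range_eta K x
  have he : ringExpChar E = ringExpChar K := ringExpChar_eq (g₁.comp (η.eta K))
  refine pow_inj n ?_
  rw [he, ← map_pow, ← map_pow, ← ha]
  exact RingHom.congr_fun h a

theorem eta_obj (K : Type u) [Field K] : η.eta (η.obj K) = η.map (η.eta K) :=
  hom_ext_eta η (η.eta_natural (η.eta K)).symm

theorem bijective_eta_obj (K : Type u) [Field K] : Function.Bijective (η.eta (η.obj K)) :=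
  eta_obj η K ▸ η.bijective_map_eta K

theorem map_ringEquiv_bijective (e : K ≃+* L) : Function.Bijective (η.map (e : K →+* L)) := by
  refine Function.bijective_iff_has_inverse.mpr ⟨η.map (e.symm : L →+* K), ?_, ?_⟩ <;> intro x
  · rw [← RingHom.comp_apply, ← η.map_comp, RingEquiv.symm_comp, η.map_id, RingHom.id_apply]
  · rw [← RingHom.comp_apply, ← η.map_comp, RingEquiv.comp_symm, η.map_id, RingHom.id_apply]

theorem bijective_eta_of_equiv (e : K ≃+* L) (h : Function.Bijective (η.eta K)) :
    Function.Bijective (η.eta L) := by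
  have h' : (η.eta L : L → η.obj L) =
      η.map (e : K →+* L) ∘ η.eta K ∘ (e.symm : L → K) := by
    funext x
    simp [map_eta]
  rw [h']
  exact (map_ringEquiv_bijective η e).comp (h.comp e.symm.bijective)

/-- `F j` is bijective as soon as `j` factors `η`. -/
theorem bijective_map_of_factor (j : K →+* L) (φ : L →+* η.obj K) (h : φ.comp j = η.eta K) :
    Function.Bijective (η.map j) := by
  have hb : Function.Bijective (η.map φ ∘ η.map j) := by
    have := η.bijective_map_eta K
    rwa [← h, η.map_comp] at this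
  have hφ : Function.Bijective (η.map φ) :=
    ⟨RingHom.injective _, Function.Surjective.of_comp hb.2⟩
  exact hφ.of_comp_iff' _ |>.mp hb

end Fields

section Val

variable {A B : Type u} [CommRing A] [CommRing B] {K L : Type u} [Field K] [Field L]

/-- the point of a field-valued homomorphism -/
def pt (g : A →+* K) : PrimeSpectrum A := ⟨RingHom.ker g, RingHom.ker_isPrime g⟩

theorem primeCompl_le (g : A →+* K) :
    (pt g).asIdeal.primeCompl ≤ (IsUnit.submonoid K).comap g :=
  fun _ ha => IsUnit.mk0 _ fun h0 => ha h0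

/-- the map from the residue field at the point -/
noncomputable def ptLift (g : A →+* K) : (pt g).asIdeal.ResidueField →+* K :=
  Ideal.ResidueField.lift _ g le_rfl (primeCompl_le g)

theorem ptLift_comp (g : A →+* K) :
    (ptLift g).comp (algebraMap A (pt g).asIdeal.ResidueField) = g :=
  RingHom.ext fun a => Ideal.ResidueField.lift_algebraMap _ _ _ (primeCompl_le g) a

/-- evaluation of a family at a field-valued point -/
noncomputable def val (g : A →+* K) : η.N A →+* η.obj K :=
  (η.map (ptLift g)).comp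
    (Pi.evalRingHom (fun p : PrimeSpectrum A => η.obj p.asIdeal.ResidueField) (pt g))

theorem ker_eq_of_comp {g : A →+* K} {p : PrimeSpectrum A} (h : p.asIdeal.ResidueField →+* K)
    (hh : h.comp (algebraMap A p.asIdeal.ResidueField) = g) : pt g = p := by
  refine PrimeSpectrum.ext ?_
  show RingHom.ker g = p.asIdeal
  subst hh
  ext a
  rw [RingHom.mem_ker, RingHom.comp_apply, map_eq_zero_iff _ h.injective]
  exact Ideal.algebraMap_residueField_eq_zero

theorem val_eq (g : A →+* K) (p : PrimeSpectrum A) (h : p.asIdeal.ResidueField →+* K)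
    (hh : h.comp (algebraMap A p.asIdeal.ResidueField) = g) (x : η.N A) :
    val η g x = η.map h (x p) := by
  obtain rfl := ker_eq_of_comp h hh
  have : h = ptLift g := Ideal.ResidueField.ringHom_ext (hh.trans (ptLift_comp g).symm)
  subst this
  rfl

theorem val_residueField (p : PrimeSpectrum A) (x : η.N A) :
    val η (algebraMap A p.asIdeal.ResidueField) x = x p := by
  rw [val_eq η _ p (RingHom.id _) (RingHom.id_comp _), η.map_id]
  rfl

theorem val_eta_residueField (p : PrimeSpectrum A) (x : η.N A) :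
    val η ((η.eta p.asIdeal.ResidueField).comp (algebraMap A p.asIdeal.ResidueField)) x =
      η.eta (η.obj p.asIdeal.ResidueField) (x p) := by
  rw [val_eq η _ p (η.eta p.asIdeal.ResidueField) rfl, eta_obj]

theorem val_t (g : A →+* K) (a : A) : val η g (η.t A a) = η.eta K (g a) := by
  show η.map (ptLift g) (η.eta _ (algebraMap A _ a)) = _
  rw [map_eta]
  exact congrArg _ (RingHom.congr_fun (ptLift_comp g) a)

theorem val_comp_field (g : A →+* K) (h : K →+* L) (x : η.N A) :
    val η (h.comp g) x = η.map h (val η g x) := by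
  rw [val_eq η (h.comp g) (pt g) (h.comp (ptLift g)) (by rw [RingHom.comp_assoc, ptLift_comp]),
    η.map_comp]
  rfl

theorem val_comp (f : A →+* B) (g : B →+* K) (x : η.N A) :
    val η (g.comp f) x = val η g (η.Nmap f x) := by
  rw [val_eq η (g.comp f) (PrimeSpectrum.comap f (pt g))
    ((ptLift g).comp (Ideal.ResidueField.map _ _ f rfl)), η.map_comp]
  · rfl
  · ext a
    simp only [RingHom.comp_apply]
    erw [Ideal.ResidueField.map_algebraMap]
    exact RingHom.congr_fun (ptLift_comp g) (f a)

theorem Nmap_apply (f : A →+* B) (x : η.N A) (q : PrimeSpectrum B) :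
    η.Nmap f x q = val η ((algebraMap B q.asIdeal.ResidueField).comp f) x := by
  rw [val_comp, val_residueField]

theorem Nmap_comp {C : Type u} [CommRing C] (f : A →+* B) (g : B →+* C) :
    (η.Nmap g).comp (η.Nmap f) = η.Nmap (g.comp f) := by
  ext x q
  rw [RingHom.comp_apply, Nmap_apply, Nmap_apply, ← RingHom.comp_assoc, val_comp η f]

theorem Nmap_id : η.Nmap (RingHom.id A) = RingHom.id (η.N A) := by
  ext x q
  rw [Nmap_apply, RingHom.comp_id, val_residueField]
  rfl

theorem val_eq_zero_iff (g : A →+* K) (x : η.N A) : val η g x = 0 ↔ x (pt g) = 0 :=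
  map_eq_zero_iff (η.map (ptLift g)) (RingHom.injective _)

theorem t_eq_zero_iff (a : A) : η.t A a = 0 ↔ IsNilpotent a := by
  rw [nilpotent_iff_mem_prime]
  constructor
  · intro h J hJ
    have := congrFun h ⟨J, hJ⟩
    rw [← Ideal.algebraMap_residueField_eq_zero (R := A)]
    exact (map_eq_zero_iff (η.eta _) (RingHom.injective _)).mp this
  · intro h
    funext p
    show η.eta _ (algebraMap A p.asIdeal.ResidueField a) = 0
    rw [Ideal.algebraMap_residueField_eq_zero.mpr (h p.asIdeal p.2), map_zero]

theorem t_injective [IsReduced A] : Function.Injective (η.t A) :=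
  (injective_iff_map_eq_zero _).mpr fun _ ha => ((t_eq_zero_iff η _).mp ha).eq_zero

end Val

section M

variable {A B : Type u} [CommRing A] [CommRing B] {R : Type u} [CommRing R] [IsDomain R]
  [ValuationRing R] {K L : Type u} [Field K] [Field L]

theorem exists_val_eq {x : η.N A} (hx : x ∈ η.M A) (hR : η.InV R) (g : A →+* R) :
    ∃ r : R, ∀ (K : Type u) [Field K] (h : R →+* K), val η (h.comp g) x = η.eta K (h r) := by
  obtain ⟨r, hr⟩ := hx R hR g
  exact ⟨r, fun K _ h => by rw [val_comp, ← hr, val_t]⟩

theorem mem_M_of_exists_val (x : η.N A)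
    (h : ∀ (R : Type u) [CommRing R] [IsDomain R] [ValuationRing R], η.InV R → ∀ g : A →+* R,
      ∃ r : R, ∀ P : PrimeSpectrum R, val η ((algebraMap R P.asIdeal.ResidueField).comp g) x =
        η.eta _ (algebraMap R P.asIdeal.ResidueField r)) : x ∈ η.M A := by
  intro R _ _ _ hR g
  obtain ⟨r, hr⟩ := h R hR g
  refine ⟨r, funext fun P => ?_⟩
  rw [Nmap_apply, hr P]
  rfl

theorem Nmap_mem_M (f : A →+* B) {x : η.N A} (hx : x ∈ η.M A) : η.Nmap f x ∈ η.M B := by
  intro R _ _ _ hR g
  rw [← RingHom.comp_apply, Nmap_comp]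
  exact hx R hR _

theorem inV_valuationSubring (hL : Function.Bijective (η.eta L)) (V : ValuationSubring L) :
    η.InV V :=
  bijective_eta_of_equiv η (FractionRing.algEquiv V L).symm.toRingEquiv hL

/-- the value of an element of `M` at a point in a field of `V_η` -/
theorem exists_val_eq_field {x : η.N A} (hx : x ∈ η.M A) (hL : Function.Bijective (η.eta L))
    (g : A →+* L) : ∃ y : L, val η g x = η.eta L y ∧ g.IsIntegralElem y ∧
      ∀ (V : ValuationSubring L) (hV : ∀ a, g a ∈ V), ∃ hy : y ∈ V,
        ∀ (K : Type u) [Field K] (h : V →+* K),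
          val η (h.comp (g.codRestrict V.toSubring hV)) x = η.eta K (h ⟨y, hy⟩) := by
  obtain ⟨y, hy⟩ := hL.2 (val η g x)
  have hV' : ∀ (V : ValuationSubring L) (hV : ∀ a, g a ∈ V), ∃ hy : y ∈ V,
      ∀ (K : Type u) [Field K] (h : V →+* K),
        val η (h.comp (g.codRestrict V.toSubring hV)) x = η.eta K (h ⟨y, hy⟩) := by
    intro V hV
    obtain ⟨r, hr⟩ := exists_val_eq η hx (inV_valuationSubring η hL V)
      (g.codRestrict V.toSubring hV)
    have hry : (r : L) = y := hL.1 ((hr L V.subtype).symm.trans (by rw [hy]; rfl))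
    subst hry
    exact ⟨r.2, hr⟩
  refine ⟨y, hy.symm, ?_, hV'⟩
  have hmem : y ∈ ⨅ V : {V : ValuationSubring L // (g.range : Set L) ⊆ V.toSubring},
      V.1.toSubring := by
    rw [Subring.mem_iInf]
    intro V
    exact (hV' V.1 fun a => V.2 ⟨a, rfl⟩).1
  rw [iInf_valuationSubring_superset] at hmem
  letI := g.toAlgebra
  have hle : Subring.closure (g.range : Set L) ≤ g.range := Subring.closure_le.mpr le_rfl
  have hint : IsIntegral (Subring.closure (g.range : Set L)) y := hmem
  obtain ⟨p, hp, hpy⟩ := hint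
  have hlift : p.map (Subring.closure (g.range : Set L)).subtype ∈ Polynomial.lifts g := by
    rw [Polynomial.lifts_iff_coeff_lifts]
    intro n
    rw [Polynomial.coeff_map]
    exact hle (p.coeff n).2
  obtain ⟨q, hq, -, hqm⟩ := Polynomial.lifts_and_degree_eq_and_monic hlift (hp.map _)
  refine ⟨q, hqm, ?_⟩
  rw [← Polynomial.eval_map, hq, Polynomial.eval_map]
  exact hpy

/-- a valuation subring containing the image and centred at a given prime -/
theorem exists_valuationSubring (g : A →+* L) (P : Ideal A) [P.IsPrime]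
    (hP : RingHom.ker g ≤ P) :
    ∃ (V : ValuationSubring L) (hV : ∀ a, g a ∈ V),
      ∀ a, IsLocalRing.residue V (g.codRestrict V.toSubring hV a) = 0 ↔ a ∈ P := by
  have hu : ∀ a : P.primeCompl, IsUnit (g a) := fun a =>
    IsUnit.mk0 _ fun h0 => a.2 (hP (RingHom.mem_ker.mpr h0))
  obtain ⟨V, hV, hloc⟩ := IsLocalRing.exists_factor_valuationRing
    (IsLocalization.lift (S := Localization.AtPrime P) hu)
  have hg : ∀ a, g a ∈ V := fun a => by
    have := hV (algebraMap A (Localization.AtPrime P) a)
    rwa [IsLocalization.lift_eq] at this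
  refine ⟨V, hg, fun a => ?_⟩
  rw [IsLocalRing.residue_eq_zero_iff, IsLocalRing.mem_maximalIdeal, mem_nonunits_iff]
  have : g.codRestrict V.toSubring hg a =
      (IsLocalization.lift (S := Localization.AtPrime P) hu).codRestrict V.toSubring hV
        (algebraMap A (Localization.AtPrime P) a) :=
    Subtype.ext (IsLocalization.lift_eq hu a).symm
  constructor
  · intro h
    by_contra ha
    exact h (this ▸ (IsLocalization.map_units (Localization.AtPrime P) (⟨a, ha⟩ : P.primeCompl)).map _)
  · intro ha h
    rw [this] at h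
    have := (IsLocalization.AtPrime.isUnit_to_map_iff (Localization.AtPrime P) P a).mp
      (hloc.map_nonunit _ h)
    exact this ha

/-- elements of `M` vanishing at a prime vanish at its specialisations -/
theorem eq_zero_of_le {x : η.N A} (hx : x ∈ η.M A) {p q : PrimeSpectrum A}
    (hpq : p.asIdeal ≤ q.asIdeal) (h0 : x p = 0) : x q = 0 := by
  set ι := (η.eta p.asIdeal.ResidueField).comp (algebraMap A p.asIdeal.ResidueField) with hι
  obtain ⟨y, hy, -, hV⟩ := exists_val_eq_field η hx (bijective_eta_obj η _) ι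
  have hy0 : y = 0 := by
    apply (bijective_eta_obj η _).1
    rw [← hy, hι, val_eta_residueField, h0]
  subst hy0
  obtain ⟨V, hVA, hres⟩ := exists_valuationSubring ι q.asIdeal (by
    intro a ha
    rw [RingHom.mem_ker, hι, RingHom.comp_apply,
      map_eq_zero_iff _ (RingHom.injective _)] at ha
    exact hpq (Ideal.algebraMap_residueField_eq_zero.mp ha))
  obtain ⟨hy', hK⟩ := hV V hVA
  have h1 := hK _ (IsLocalRing.residue V)
  rw [show (⟨0, hy'⟩ : V) = 0 from rfl, map_zero, map_zero, val_eq_zero_iff] at h1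
  have : pt ((IsLocalRing.residue V).comp (ι.codRestrict V.toSubring hVA)) = q :=
    PrimeSpectrum.ext (Ideal.ext fun a => hres a)
  rwa [this] at h1

theorem eq_zero_of_minimalPrimes {x : η.N A} (hx : x ∈ η.M A)
    (h : ∀ p : PrimeSpectrum A, p.asIdeal ∈ minimalPrimes A → x p = 0) : x = 0 := by
  funext q
  obtain ⟨p, hp, hpq⟩ := Ideal.exists_minimalPrimes_le (bot_le : ⊥ ≤ q.asIdeal)
  haveI := hp.1.1
  exact eq_zero_of_le η hx (p := ⟨p, hp.1.1⟩) hpq (h _ hp)

theorem eq_of_minimalPrimes {x y : η.N A} (hx : x ∈ η.M A) (hy : y ∈ η.M A)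
    (h : ∀ p : PrimeSpectrum A, p.asIdeal ∈ minimalPrimes A → x p = y p) : x = y :=
  sub_eq_zero.mp (eq_zero_of_minimalPrimes η (sub_mem hx hy) fun p hp => sub_eq_zero.mpr (h p hp))

/-- components of elements of `M` are integral over the ring -/
theorem isIntegralElem_component {x : η.N A} (hx : x ∈ η.M A) (p : PrimeSpectrum A) :
    ((η.eta p.asIdeal.ResidueField).comp (algebraMap A p.asIdeal.ResidueField)).IsIntegralElem
      (x p) := by
  obtain ⟨y, hy, hint, -⟩ := exists_val_eq_field η hx (bijective_eta_obj η _)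
    ((η.eta p.asIdeal.ResidueField).comp (algebraMap A p.asIdeal.ResidueField))
  rw [val_eta_residueField] at hy
  exact (bijective_eta_obj η _).1 hy ▸ hint

variable (A)

/-- evaluation at a point, on `M` -/
noncomputable def ev (p : PrimeSpectrum A) : η.M A →+* η.obj p.asIdeal.ResidueField :=
  (Pi.evalRingHom (fun p : PrimeSpectrum A => η.obj p.asIdeal.ResidueField) p).comp (η.M A).subtype

theorem ev_comp_q (p : PrimeSpectrum A) :
    (ev η A p).comp (η.q A) = (η.eta _).comp (algebraMap A p.asIdeal.ResidueField) := rfl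

theorem comap_q_ker_ev (p : PrimeSpectrum A) :
    (RingHom.ker (ev η A p)).comap (η.q A) = p.asIdeal := by
  rw [RingHom.comap_ker, ev_comp_q,
    RingHom.ker_comp_of_injective _ (η.eta p.asIdeal.ResidueField).injective]
  exact Ideal.ker_algebraMap_residueField _

variable {A}

theorem isIntegral_q (hA : (minimalPrimes A).Finite) : (η.q A).IsIntegral := by
  classical
  intro x
  choose f hfm hf0 using fun p : PrimeSpectrum A => isIntegralElem_component η x.2 p
  have hfin : {p : PrimeSpectrum A | p.asIdeal ∈ minimalPrimes A}.Finite :=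
    hA.preimage fun _ _ _ _ h => PrimeSpectrum.ext h
  refine ⟨∏ p ∈ hfin.toFinset, f p, Polynomial.monic_prod_of_monic _ _ fun p _ => hfm p, ?_⟩
  apply Subtype.ext
  refine eq_zero_of_minimalPrimes η (SetLike.coe_mem _) fun p hp => ?_
  show ev η A p (Polynomial.eval₂ (η.q A) x _) = 0
  rw [Polynomial.hom_eval₂, ev_comp_q, Polynomial.eval₂_finsetProd,
    Finset.prod_eq_zero (hfin.mem_toFinset.mpr hp) (hf0 p)]

theorem comap_q_injective_aux (hA : (minimalPrimes A).Finite) (Q : PrimeSpectrum (η.M A)) :
    Q.asIdeal = RingHom.ker (ev η A (PrimeSpectrum.comap (η.q A) Q)) := by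
  classical
  set p := PrimeSpectrum.comap (η.q A) Q with hp
  have hfin : {p : PrimeSpectrum A | p.asIdeal ∈ minimalPrimes A}.Finite :=
    hA.preimage fun _ _ _ _ h => PrimeSpectrum.ext h
  have hinf : hfin.toFinset.inf (fun p => RingHom.ker (ev η A p)) ≤ Q.asIdeal := by
    intro x hx
    have : x = 0 := Subtype.ext (eq_zero_of_minimalPrimes η x.2 fun p hp =>
      Finset.inf_le (f := fun p => RingHom.ker (ev η A p)) (hfin.mem_toFinset.mpr hp) hx)
    exact this ▸ zero_mem _
  obtain ⟨p₀, -, hp₀⟩ := (Ideal.IsPrime.inf_le' Q.2).mp hinf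
  have hle : RingHom.ker (ev η A p) ≤ Q.asIdeal := by
    intro x hx
    obtain ⟨V, hV, hres⟩ := exists_valuationSubring (ev η A p₀) Q.asIdeal hp₀
    obtain ⟨y, hy, -, hVy⟩ := exists_val_eq_field η x.2 (bijective_eta_obj η _)
      ((ev η A p₀).comp (η.q A))
    rw [ev_comp_q, val_eta_residueField] at hy
    obtain rfl := (bijective_eta_obj η _).1 hy
    obtain ⟨hy', hK⟩ := hVy V fun a => hV (η.q A a)
    have h1 := hK _ (IsLocalRing.residue V)
    have hpt : pt ((IsLocalRing.residue V).comp
        (((ev η A p₀).comp (η.q A)).codRestrict V.toSubring fun a => hV (η.q A a))) = p :=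
      PrimeSpectrum.ext (Ideal.ext fun a => hres (η.q A a))
    have h0 : val η ((IsLocalRing.residue V).comp
        (((ev η A p₀).comp (η.q A)).codRestrict V.toSubring fun a => hV (η.q A a))) (x : η.N A)
          = 0 := by
      rw [val_eq_zero_iff, hpt]
      exact hx
    rw [h0] at h1
    exact (hres x).mp ((map_eq_zero_iff (η.eta _) (RingHom.injective _)).mp h1.symm)
  refine (eq_or_lt_of_le hle).elim Eq.symm fun hlt => ?_
  letI := (η.q A).toAlgebra
  haveI : (RingHom.ker (ev η A p)).IsPrime := RingHom.ker_isPrime _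
  haveI : Algebra.IsIntegral A (η.M A) := ⟨isIntegral_q η hA⟩
  have h := Ideal.IsIntegral.comap_lt_comap (R := A) hlt
  rw [show algebraMap A (η.M A) = η.q A from rfl, comap_q_ker_ev] at h
  exact absurd h (lt_irrefl _)

theorem comap_q_bijective (hA : (minimalPrimes A).Finite) :
    Function.Bijective (PrimeSpectrum.comap (η.q A)) := by
  refine ⟨fun Q₁ Q₂ h => PrimeSpectrum.ext ?_, fun p => ?_⟩
  · rw [comap_q_injective_aux η hA Q₁, comap_q_injective_aux η hA Q₂, h]
  · exact ⟨⟨RingHom.ker (ev η A p), RingHom.ker_isPrime _⟩, PrimeSpectrum.ext (comap_q_ker_ev η A p)⟩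

theorem exists_residue_factor_q (hA : (minimalPrimes A).Finite) (Q : PrimeSpectrum (η.M A)) :
    ∃ φ : Q.asIdeal.ResidueField →+* η.obj (PrimeSpectrum.comap (η.q A) Q).asIdeal.ResidueField,
      φ.comp (algebraMap (η.M A) Q.asIdeal.ResidueField) = ev η A (PrimeSpectrum.comap (η.q A) Q) ∧
      φ.comp (Ideal.ResidueField.map (PrimeSpectrum.comap (η.q A) Q).asIdeal Q.asIdeal (η.q A) rfl) =
        η.eta (PrimeSpectrum.comap (η.q A) Q).asIdeal.ResidueField := by
  have hQ := comap_q_injective_aux η hA Q
  have hu : Q.asIdeal.primeCompl ≤ (IsUnit.submonoid _).comap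
      (ev η A (PrimeSpectrum.comap (η.q A) Q)) :=
    fun a ha => IsUnit.mk0 _ fun h0 => ha (hQ.ge (RingHom.mem_ker.mpr h0))
  refine ⟨Ideal.ResidueField.lift _ _ hQ.le hu, ?_, ?_⟩
  · ext a; exact Ideal.ResidueField.lift_algebraMap _ _ _ hu a
  · refine Ideal.ResidueField.ringHom_ext (RingHom.ext fun a => ?_)
    simp only [RingHom.comp_apply]
    erw [Ideal.ResidueField.map_algebraMap, Ideal.ResidueField.lift_algebraMap]
    rfl

end M

section Bijective

variable {A B : Type u} [CommRing A] [CommRing B] (f : A →+* B)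

theorem bijective_Nmap_of (hc : Function.Bijective (PrimeSpectrum.comap f))
    (hr : ∀ q : PrimeSpectrum B, Function.Bijective
      (η.map (Ideal.ResidueField.map (PrimeSpectrum.comap f q).asIdeal q.asIdeal f rfl))) :
    Function.Bijective (η.Nmap f) := by
  refine ⟨fun x y h => funext fun p => ?_, fun y => ?_⟩
  · obtain ⟨q, rfl⟩ := hc.2 p
    exact (hr q).1 (congrFun h q)
  · have : ∀ p : PrimeSpectrum A, ∃ z : η.obj p.asIdeal.ResidueField,
        ∀ (q : PrimeSpectrum B) (h : PrimeSpectrum.comap f q = p),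
          η.map (Ideal.ResidueField.map p.asIdeal q.asIdeal f (congrArg PrimeSpectrum.asIdeal h).symm) z = y q := by
      intro p
      obtain ⟨q, rfl⟩ := hc.2 p
      obtain ⟨z, hz⟩ := (hr q).2 (y q)
      refine ⟨z, fun q' h => ?_⟩
      obtain rfl := hc.1 h
      exact hz
    choose z hz using this
    exact ⟨z, funext fun q => hz _ q rfl⟩

theorem comap_surjective_of_injective_Nmap (h : Function.Injective (η.Nmap f)) :
    Function.Surjective (PrimeSpectrum.comap f) := by
  classical
  intro p
  by_contra hp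
  have : η.Nmap f (Pi.single p 1) = 0 := by
    funext q
    show η.map _ ((Pi.single p (1 : η.obj p.asIdeal.ResidueField) : η.N A) (PrimeSpectrum.comap f q)) = 0
    rw [Pi.single_eq_of_ne (fun e => hp ⟨q, e⟩), map_zero]
  have h1 := congrFun (h (this.trans (map_zero _).symm)) p
  rw [Pi.single_eq_same] at h1
  exact one_ne_zero h1

theorem comap_injective_of_surjective_Nmap (h : Function.Surjective (η.Nmap f)) :
    Function.Injective (PrimeSpectrum.comap f) := by
  classical
  intro q₁ q₂ hq
  by_contra hne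
  obtain ⟨x, hx⟩ := h (Pi.single q₁ 1)
  have h1 := congrFun hx q₁
  have h2 := congrFun hx q₂
  rw [Pi.single_eq_same] at h1
  rw [Pi.single_eq_of_ne (Ne.symm hne)] at h2
  rw [Nmap_apply, val_eq_zero_iff] at h2
  have e1 : ∀ q : PrimeSpectrum B, pt ((algebraMap B q.asIdeal.ResidueField).comp f) =
      PrimeSpectrum.comap f q := fun q => PrimeSpectrum.ext (Ideal.ext fun a => by
    show algebraMap B q.asIdeal.ResidueField (f a) = 0 ↔ _
    exact Ideal.algebraMap_residueField_eq_zero)
  rw [e1, ← hq, ← e1, ← val_eq_zero_iff η, ← Nmap_apply, h1] at h2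
  exact one_ne_zero h2

theorem bijective_map_of_bijective_Nmap (h : Function.Bijective (η.Nmap f)) (q : PrimeSpectrum B) :
    Function.Bijective
      (η.map (Ideal.ResidueField.map (PrimeSpectrum.comap f q).asIdeal q.asIdeal f rfl)) := by
  classical
  refine ⟨RingHom.injective _, fun w => ?_⟩
  obtain ⟨x, hx⟩ := h.2 (Pi.single q w)
  refine ⟨x (PrimeSpectrum.comap f q), ?_⟩
  have := congrFun hx q
  rw [Pi.single_eq_same] at this
  exact this

theorem bijective_Nmap_q (hA : (minimalPrimes A).Finite) : Function.Bijective (η.Nmap (η.q A)) :=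
  bijective_Nmap_of η _ (comap_q_bijective η hA) fun Q => by
    obtain ⟨φ, -, hφ⟩ := exists_residue_factor_q η hA Q
    exact bijective_map_of_factor η _ φ hφ

variable {f}

/-- lifting along integral maps with bijective `Nmap` -/
theorem exists_lift (hf : f.IsIntegral) (hN : Function.Bijective (η.Nmap f)) {R : Type u}
    [CommRing R] [IsDomain R] [ValuationRing R] (hR : η.InV R) (g : A →+* R) :
    ∃ g' : B →+* R, g'.comp f = g := by
  let K := FractionRing R
  let gK : A →+* K := (algebraMap R K).comp g
  obtain ⟨q, hq⟩ := comap_surjective_of_injective_Nmap η f hN.1 (pt gK)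
  let j := Ideal.ResidueField.map (PrimeSpectrum.comap f q).asIdeal q.asIdeal f rfl
  have hu : (PrimeSpectrum.comap f q).asIdeal.primeCompl ≤ (IsUnit.submonoid K).comap gK := by
    rw [hq]; exact primeCompl_le gK
  let l := Ideal.ResidueField.lift (PrimeSpectrum.comap f q).asIdeal gK
    (by rw [hq]; exact le_rfl) hu
  let ej := RingEquiv.ofBijective (η.map j) (bijective_map_of_bijective_Nmap η f hN q)
  let eK := RingEquiv.ofBijective (η.eta K) hR
  let σ : q.asIdeal.ResidueField →+* K :=
    eK.symm.toRingHom.comp ((η.map l).comp (ej.symm.toRingHom.comp (η.eta _)))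
  have hσ : ∀ a, σ (algebraMap B q.asIdeal.ResidueField (f a)) = gK a := by
    intro a
    show eK.symm (η.map l (ej.symm (η.eta _ (algebraMap B q.asIdeal.ResidueField (f a))))) = _
    have h1 : ej.symm (η.eta _ (algebraMap B q.asIdeal.ResidueField (f a))) =
        η.eta _ (algebraMap A (PrimeSpectrum.comap f q).asIdeal.ResidueField a) := by
      rw [RingEquiv.symm_apply_eq]
      show _ = η.map j (η.eta _ _)
      rw [map_eta]
      exact congrArg _ (Ideal.ResidueField.map_algebraMap _ _ f rfl a).symm
    rw [h1, map_eta, RingEquiv.symm_apply_eq,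
      Ideal.ResidueField.lift_algebraMap (hf₂ := hu)]
    rfl
  have hint : ∀ b, σ (algebraMap B q.asIdeal.ResidueField b) ∈ (algebraMap R K).range := by
    intro b
    obtain ⟨p, hp, hpb⟩ := hf b
    have : IsIntegral R (σ (algebraMap B q.asIdeal.ResidueField b)) := by
      refine ⟨p.map g, hp.map g, ?_⟩
      rw [Polynomial.eval₂_map]
      have := congrArg (σ.comp (algebraMap B q.asIdeal.ResidueField)) hpb
      rw [map_zero, Polynomial.hom_eval₂] at this
      rw [show (algebraMap R K).comp g =
        (σ.comp (algebraMap B q.asIdeal.ResidueField)).comp f from RingHom.ext fun a => (hσ a).symm]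
      exact this
    exact IsIntegrallyClosed.isIntegral_iff.mp this
  let e : R ≃+* (algebraMap R K).range :=
    RingEquiv.ofLeftInverse (Function.leftInverse_invFun (IsFractionRing.injective R K))
  refine ⟨e.symm.toRingHom.comp
    ((σ.comp (algebraMap B q.asIdeal.ResidueField)).codRestrict _ hint), RingHom.ext fun a => ?_⟩
  show e.symm _ = g a
  rw [RingEquiv.symm_apply_eq]
  exact Subtype.ext (hσ a)

theorem mem_M_iff_Nmap_mem (hf : f.IsIntegral) (hN : Function.Bijective (η.Nmap f)) (x : η.N A) :
    x ∈ η.M A ↔ η.Nmap f x ∈ η.M B := by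
  refine ⟨fun h => Nmap_mem_M η f h, fun h R _ _ _ hR g => ?_⟩
  obtain ⟨g', rfl⟩ := exists_lift η hf hN hR g
  rw [← Nmap_comp, RingHom.comp_apply]
  exact h R hR g'

theorem existsUnique_lift_q (hA : (minimalPrimes A).Finite) (hf : f.IsIntegral)
    (hN : Function.Bijective (η.Nmap f)) : ∃! g' : B →+* η.M A, g'.comp f = η.q A := by
  let e := RingEquiv.ofBijective (η.Nmap f) hN
  have hmem : ∀ b, e.symm (η.t B b) ∈ η.M A := by
    intro b
    rw [mem_M_iff_Nmap_mem η hf hN]
    have : η.Nmap f (e.symm (η.t B b)) = η.t B b := e.apply_symm_apply _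
    rw [this]
    exact η.t_mem_M B b
  refine ⟨(e.symm.toRingHom.comp (η.t B)).codRestrict _ hmem, ?_, ?_⟩
  · refine RingHom.ext fun a => Subtype.ext ?_
    show e.symm (η.t B (f a)) = η.t A a
    rw [RingEquiv.symm_apply_eq]
    exact (η.Nmap_t_apply f a).symm
  · intro g' hg'
    refine RingHom.ext fun b => Subtype.ext ?_
    show (g' b : η.N A) = e.symm (η.t B b)
    rw [RingEquiv.eq_symm_apply]
    show η.Nmap f _ = _
    have hb := bijective_Nmap_q η hA
    rw [← hg', ← Nmap_comp, RingHom.coe_comp] at hb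
    have hinj : Function.Injective (η.Nmap g') := ((Function.Bijective.of_comp_iff _ hN).mp hb).1
    apply hinj
    rw [← RingHom.comp_apply, Nmap_comp, hg', η.Nmap_t_apply]
    funext Q
    obtain ⟨φ, hφ, hφj⟩ := exists_residue_factor_q η hA Q
    show η.map _ ((g' b : η.N A) (PrimeSpectrum.comap (η.q A) Q)) = η.eta _ _
    apply (η.map φ).injective
    rw [← RingHom.comp_apply (η.map φ), ← η.map_comp, hφj, map_eta, ← eta_obj]
    exact congrArg _ (RingHom.congr_fun hφ (g' b)).symm

theorem Nmap_q_apply (hA : (minimalPrimes A).Finite) (x : η.M A) :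
    η.Nmap (η.q A) (x : η.N A) = η.t (η.M A) x := by
  funext Q
  obtain ⟨φ, hφ, hφj⟩ := exists_residue_factor_q η hA Q
  show η.map _ ((x : η.N A) (PrimeSpectrum.comap (η.q A) Q)) = η.eta _ _
  apply (η.map φ).injective
  rw [← RingHom.comp_apply (η.map φ), ← η.map_comp, hφj, map_eta, ← eta_obj]
  exact congrArg _ (RingHom.congr_fun hφ x).symm

theorem bijective_of_isReduced (hA : (minimalPrimes A).Finite) [IsReduced B] (f : η.M A →+* B)
    (hf : f.IsIntegral) (hN : Function.Bijective (η.Nmap f)) : Function.Bijective f := by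
  have hfq : (f.comp (η.q A)).IsIntegral := RingHom.IsIntegral.trans _ _ (isIntegral_q η hA) hf
  have hNq : Function.Bijective (η.Nmap (f.comp (η.q A))) := by
    rw [← Nmap_comp]; exact hN.comp (bijective_Nmap_q η hA)
  obtain ⟨g', hg', -⟩ := existsUnique_lift_q η hA hfq hNq
  have hu := existsUnique_lift_q η hA (isIntegral_q η hA) (bijective_Nmap_q η hA)
  have hgf : g'.comp f = RingHom.id _ :=
    hu.unique (by rw [RingHom.comp_assoc]; exact hg') (RingHom.id_comp _)
  refine ⟨fun x y h => ?_, fun b => ⟨g' b, t_injective η ?_⟩⟩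
  · have := congrArg g' h
    rwa [← RingHom.comp_apply, ← RingHom.comp_apply, hgf] at this
  · have hb := hN
    have hcomp : Function.Bijective (η.Nmap g' ∘ η.Nmap f) := by
      rw [← RingHom.coe_comp, Nmap_comp, hgf, Nmap_id]; exact Function.bijective_id
    apply ((Function.Bijective.of_comp_iff _ hb).mp hcomp).1
    rw [η.Nmap_t_apply, η.Nmap_t_apply, ← RingHom.comp_apply g' f, hgf]
    rfl

end Bijective

end Groth.Agent.EtaPtLib.Basic
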