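import Mathlib.AlgebraicGeometry.Morphisms.UniversallyOpen
import Mathlib.AlgebraicGeometry.Morphisms.FinitePresentation
import Mathlib.RingTheory.Spectrum.Prime.Noetherian
import Mathlib.RingTheory.LocalRing.ResidueField.Fiber
import Mathlib.RingTheory.Jacobson.Ring

/-! Finiteness of irreducible components along flat maps of finite type. -/

universe u

open CategoryTheory AlgebraicGeometry TopologicalSpace

namespace Groth.Agent.EtaPtLib.IrredComp

theorem finite_ring {A B : Type u} [CommRing A] [CommRing B] [Algebra A B] [Module.Flat A B]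
    [Algebra.FiniteType A B] (hA : (minimalPrimes A).Finite) : (minimalPrimes B).Finite := by
  classical
  have hfib : ∀ p : PrimeSpectrum A, (minimalPrimes (p.asIdeal.Fiber B)).Finite := fun p =>
    haveI : IsNoetherianRing (p.asIdeal.Fiber B) :=
      Algebra.FiniteType.isNoetherianRing p.asIdeal.ResidueField _
    minimalPrimes.finite_of_isNoetherianRing _
  have hfin : ((PrimeSpectrum.asIdeal) ⁻¹' minimalPrimes A).Finite :=
    hA.preimage fun _ _ _ _ h => PrimeSpectrum.ext h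
  refine (hfin.biUnion fun p _ => (hfib p).image fun q =>
    q.comap (Algebra.TensorProduct.includeRight : B →ₐ[A] p.asIdeal.Fiber B).toRingHom).subset ?_
  intro P hP
  haveI := hP.1.1
  let p : PrimeSpectrum A := ⟨P.under A, inferInstance⟩
  have hp : p.asIdeal ∈ minimalPrimes A := by
    obtain ⟨q, hq, hqp⟩ := Ideal.exists_minimalPrimes_le (bot_le : ⊥ ≤ P.under A)
    haveI := hq.1.1
    obtain ⟨Q, hQP, hQ, hQq⟩ := Ideal.exists_ideal_le_liesOver_of_le P hqp
    obtain rfl := le_antisymm hQP (hP.2 ⟨hQ, bot_le⟩ hQP)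
    show Q.under A ∈ minimalPrimes A
    rw [← hQq.over]
    exact hq
  refine Set.mem_biUnion (x := p) hp ?_
  let PB : PrimeSpectrum B := ⟨P, hP.1.1⟩
  have hPB : PB ∈ PrimeSpectrum.comap (algebraMap A B) ⁻¹' {p} := rfl
  let e := PrimeSpectrum.preimageOrderIsoFiber A B p
  let Q := e ⟨PB, hPB⟩
  refine ⟨Q.asIdeal, ⟨⟨Q.2, bot_le⟩, fun Q' hQ' hle => ?_⟩, ?_⟩
  · have h1 : (⟨Q', hQ'.1⟩ : PrimeSpectrum _) ≤ Q := hle
    have h2 := e.symm.monotone h1
    rw [OrderIso.symm_apply_apply] at h2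
    have h3 : P ≤ (e.symm ⟨Q', hQ'.1⟩).1.asIdeal :=
      hP.2 ⟨(e.symm ⟨Q', hQ'.1⟩).1.2, bot_le⟩ h2
    have h4 : e.symm ⟨Q', hQ'.1⟩ = ⟨PB, hPB⟩ :=
      le_antisymm h2 h3
    have h5 := congrArg e h4
    rw [OrderIso.apply_symm_apply] at h5
    exact (congrArg PrimeSpectrum.asIdeal h5).ge
  · exact congrArg (fun x => x.1.asIdeal) (e.symm_apply_apply ⟨PB, hPB⟩)

variable {X Y : Scheme.{u}}

theorem finite_of_cover (V : Y.Opens) (s : Set Y.Opens) (hs : s.Finite)
    (hcov : (V : Set Y) = ⋃ W ∈ s, (W : Set Y))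
    (h : ∀ W ∈ s, (irreducibleComponents ↥(W : Set Y)).Finite) :
    (irreducibleComponents ↥(V : Set Y)).Finite := by
  classical
  have hsub : ∀ W ∈ s, (W : Set Y) ⊆ V := fun W hW => hcov ▸ Set.subset_biUnion_of_mem hW
  refine (hs.biUnion' fun W hW => (h W hW).image fun T =>
    closure ((fun w : ↥(W : Set Y) => (⟨w.1, hsub W hW w.2⟩ : ↥(V : Set Y))) '' T)).subset ?_
  intro Z hZ
  obtain ⟨z, hz⟩ := hZ.1.nonempty
  obtain ⟨W, hW, hzW⟩ := Set.mem_iUnion₂.mp (hcov ▸ z.2 : (z : Y) ∈ ⋃ W ∈ s, (W : Set Y))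
  let j : ↥(W : Set Y) → ↥(V : Set Y) := fun w => ⟨w.1, hsub W hW w.2⟩
  have hj : Topology.IsOpenEmbedding j :=
    ⟨Topology.IsEmbedding.inclusion (hsub W hW), by
      have : Set.range j = Subtype.val ⁻¹' (W : Set Y) := by
        ext x
        exact ⟨fun ⟨w, hw⟩ => hw ▸ w.2, fun hx => ⟨⟨x, hx⟩, rfl⟩⟩
      rw [this]
      exact W.2.preimage continuous_subtype_val⟩
  refine Set.mem_iUnion₂.mpr ⟨W, hW, (Set.mem_image _ _ _).mpr
    ⟨j ⁻¹' Z, preimage_mem_irreducibleComponents hZ hj ⟨z, hz, ⟨z, hzW⟩, rfl⟩, ?_⟩⟩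
  show closure (j '' (j ⁻¹' Z)) = Z
  rw [Set.image_preimage_eq_inter_range]
  apply subset_antisymm
  · exact closure_minimal Set.inter_subset_left (isClosed_of_mem_irreducibleComponents _ hZ)
  · exact subset_closure_inter_of_isPreirreducible_of_isOpen hZ.1.isPreirreducible hj.isOpen_range ⟨z, hz, ⟨z, hzW⟩, rfl⟩

theorem exists_finite_affine_cover (f : Y ⟶ X) (V : Y.Opens) (hV : IsCompact (V : Set Y)) :
    ∃ s : Set Y.Opens, s.Finite ∧
      (∀ W ∈ s, ∃ U : X.affineOpens, IsAffineOpen W ∧ W ≤ f ⁻¹ᵁ (U : X.Opens)) ∧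
      (V : Set Y) = ⋃ W ∈ s, (W : Set Y) := by
  have h : ∀ y : V, ∃ W : Y.Opens, (y : Y) ∈ W ∧ W ≤ V ∧
      ∃ U : X.affineOpens, IsAffineOpen W ∧ W ≤ f ⁻¹ᵁ (U : X.Opens) := by
    intro y
    obtain ⟨U, hU, hyU, -⟩ := Opens.isBasis_iff_nbhd.mp X.isBasis_affineOpens
      (show f.base (y : Y) ∈ (⊤ : X.Opens) from trivial)
    obtain ⟨W, hW, hyW, hWle⟩ := Opens.isBasis_iff_nbhd.mp Y.isBasis_affineOpens
      (show (y : Y) ∈ V ⊓ f ⁻¹ᵁ U from ⟨y.2, hyU⟩)
    exact ⟨W, hyW, hWle.trans inf_le_left, ⟨U, hU⟩, hW, hWle.trans inf_le_right⟩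
  choose W hyW hWV U hWU using h
  obtain ⟨t, ht⟩ := hV.elim_finite_subcover (fun y : V => (W y : Set Y)) (fun y => (W y).2)
    (fun y hy => Set.mem_iUnion.mpr ⟨⟨y, hy⟩, hyW ⟨y, hy⟩⟩)
  refine ⟨W '' (t : Set _), t.finite_toSet.image W, ?_, ?_⟩
  · rintro _ ⟨y, -, rfl⟩
    exact ⟨U y, hWU y⟩
  · rw [Set.biUnion_image]
    exact subset_antisymm ht (Set.iUnion₂_subset fun y _ => hWV y)

theorem finite_affine (f : Y ⟶ X) [Flat f] [LocallyOfFinitePresentation f] (U : X.affineOpens)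
    (W : Y.Opens) (hW : IsAffineOpen W ∧ W ≤ f ⁻¹ᵁ (U : X.Opens))
    (hU : (irreducibleComponents ((U : X.Opens) : Type u)).Finite) :
    (irreducibleComponents (W : Type u)).Finite := by
  obtain ⟨hW, hle⟩ := hW
  have hft : (f.appLE U W hle).hom.FiniteType :=
    LocallyOfFiniteType.finiteType_appLE f U.2 hW hle
  have hfl : (f.appLE U W hle).hom.Flat := Flat.flat_appLE f U.2 hW hle
  letI := (f.appLE U W hle).hom.toAlgebra
  haveI : Algebra.FiniteType Γ(X, U) Γ(Y, W) := hft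
  haveI : Module.Flat Γ(X, U) Γ(Y, W) := hfl
  have key : ∀ {Z : Scheme.{u}} (O : Z.Opens), IsAffineOpen O →
      ((irreducibleComponents (O : Type u)).Finite ↔ (minimalPrimes Γ(Z, O)).Finite) := by
    intro Z O hO
    have e : (O : Type u) ≃ₜ PrimeSpectrum Γ(Z, O) := Scheme.homeoOfIso hO.isoSpec
    constructor
    · intro h
      refine (Set.Finite.of_finite_image (f := fun p => PrimeSpectrum.zeroLocus (p : Set Γ(Z, O))) ?_ ?_)
      · rw [show (fun p : Ideal Γ(Z, O) => PrimeSpectrum.zeroLocus (p : Set Γ(Z, O))) =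
          PrimeSpectrum.zeroLocus ∘ SetLike.coe from rfl, PrimeSpectrum.zeroLocus_minimalPrimes]
        exact (h.image fun T => e '' T).subset fun T hT => ⟨e ⁻¹' T,
          preimage_mem_irreducibleComponents hT e.isOpenEmbedding (by
            obtain ⟨x, hx⟩ := hT.1.nonempty
            exact ⟨x, hx, e.surjective x⟩), Set.image_preimage_eq _ e.surjective⟩
      · intro p hp q hq hpq
        have := congrArg PrimeSpectrum.vanishingIdeal hpq
        rwa [PrimeSpectrum.vanishingIdeal_zeroLocus_eq_radical, PrimeSpectrum.vanishingIdeal_zeroLocus_eq_radical,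
          hp.1.1.radical, hq.1.1.radical] at this
    · intro h
      refine (((h.image fun p : Ideal Γ(Z, O) => PrimeSpectrum.zeroLocus (p : Set Γ(Z, O))).image
        fun T => e ⁻¹' T).subset fun T hT => ⟨e.symm ⁻¹' T, ?_, ?_⟩)
      · rw [show (fun p : Ideal Γ(Z, O) => PrimeSpectrum.zeroLocus (p : Set Γ(Z, O))) =
          PrimeSpectrum.zeroLocus ∘ SetLike.coe from rfl, PrimeSpectrum.zeroLocus_minimalPrimes]
        refine preimage_mem_irreducibleComponents hT e.symm.isOpenEmbedding ?_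
        obtain ⟨x, hx⟩ := hT.1.nonempty
        exact ⟨x, hx, e.symm.surjective x⟩
      · ext x; simp
  exact (key W hW).mpr (finite_ring ((key (U : X.Opens) U.2).mp hU))

end Groth.Agent.EtaPtLib.IrredComp
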