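import Groth.Agent.EtaPtLib.Rel
import Groth.Prelude.Def_EGA4b
import Mathlib.RingTheory.Localization.Away.Basic
import Mathlib.RingTheory.Flat.FaithfullyFlat.Algebra

/-! Localization and descent properties of `EtaPt`. -/

set_option linter.style.haveILetI false

universe u

namespace Groth.Agent.EtaPtLib.Local

open EtaPt Groth.Agent.EtaPtLib.Basic

variable (η : FieldEndo.{u})

theorem map_mem_rel_of_comm {A A' B B' : Type u} [CommRing A] [CommRing A'] [CommRing B]
    [CommRing B'] {j : A →+* B} {f : A →+* A'} {g : B →+* B'} {j' : A' →+* B'}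
    (h : j'.comp f = g.comp j) {b : B} (hb : b ∈ η.rel j) : g b ∈ η.rel j' := by
  obtain ⟨x, hx, hxb⟩ := hb
  refine ⟨η.Nmap f x, Nmap_mem_M η f hx, ?_⟩
  rw [← RingHom.comp_apply, Nmap_comp, h, ← Nmap_comp, RingHom.comp_apply, hxb, η.Nmap_t_apply]

theorem qRel_injective_iff {A B : Type u} [CommRing A] [CommRing B] (f : A →+* B) :
    Function.Injective (η.qRel f) ↔ Function.Injective f :=
  ⟨fun h a b e => h (Subtype.ext e), fun h a b e => h (congrArg Subtype.val e)⟩

theorem bijective_qRel_iff {A B : Type u} [CommRing A] [CommRing B] (f : A →+* B) :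
    Function.Bijective (η.qRel f) ↔ Function.Injective f ∧ ∀ b ∈ η.rel f, ∃ a, f a = b := by
  refine and_congr (qRel_injective_iff η f) ⟨fun h b hb => ?_, fun h b => ?_⟩
  · obtain ⟨a, ha⟩ := h ⟨b, hb⟩
    exact ⟨a, congrArg Subtype.val ha⟩
  · obtain ⟨a, ha⟩ := h b b.2
    exact ⟨a, Subtype.ext ha⟩

theorem awayMap_comp {A B : Type u} [CommRing A] [CommRing B] (φ : A →+* B) (f : A) :
    (Localization.awayMap φ f).comp (algebraMap A (Localization.Away f)) =
      (algebraMap B (Localization.Away (φ f))).comp φ := by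
  unfold Localization.awayMap IsLocalization.Away.map
  exact IsLocalization.map_comp _

section Away

variable {A : Type u} [CommRing A] (f : A)

theorem map_bijective_away (q : PrimeSpectrum (Localization.Away f)) :
    Function.Bijective (η.map (Ideal.ResidueField.map
      (PrimeSpectrum.comap (algebraMap A (Localization.Away f)) q).asIdeal q.asIdeal
      (algebraMap A (Localization.Away f)) rfl)) :=
  map_ringEquiv_bijective η (RingEquiv.ofBijective _
    ((RingHom.surjectiveOnStalks_of_isLocalization (Submonoid.powers f)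
      (Localization.Away f)).residueFieldMap_bijective _ q.asIdeal rfl))

theorem mem_range_comap_away {p : PrimeSpectrum A} (hp : f ∉ p.asIdeal) :
    ∃ q, PrimeSpectrum.comap (algebraMap A (Localization.Away f)) q = p := by
  have h : p ∈ Set.range (PrimeSpectrum.comap (algebraMap A (Localization.Away f))) := by
    rw [PrimeSpectrum.localization_away_comap_range (Localization.Away f) f]
    exact hp
  exact h

theorem not_mem_comap_away (q : PrimeSpectrum (Localization.Away f)) :
    f ∉ (PrimeSpectrum.comap (algebraMap A (Localization.Away f)) q).asIdeal := fun h =>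
  q.2.ne_top (Ideal.eq_top_of_isUnit_mem _ h
    (IsLocalization.map_units (Localization.Away f) (⟨f, Submonoid.mem_powers f⟩ : Submonoid.powers f)))

theorem t_apply_eq_zero_iff (a : A) (p : PrimeSpectrum A) : η.t A a p = 0 ↔ a ∈ p.asIdeal :=
  (map_eq_zero_iff (η.eta _) (RingHom.injective _)).trans Ideal.algebraMap_residueField_eq_zero

theorem exists_extend (y : η.N (Localization.Away f)) :
    ∃ x : η.N A, η.Nmap (algebraMap A (Localization.Away f)) x = y := by
  classical
  have hinj := PrimeSpectrum.localization_comap_injective (Localization.Away f) (Submonoid.powers f)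
  have hz : ∀ p : PrimeSpectrum A, ∃ z : η.obj p.asIdeal.ResidueField,
      ∀ (q : PrimeSpectrum (Localization.Away f))
        (h : PrimeSpectrum.comap (algebraMap A (Localization.Away f)) q = p),
        η.map (Ideal.ResidueField.map p.asIdeal q.asIdeal (algebraMap A (Localization.Away f))
          (congrArg PrimeSpectrum.asIdeal h).symm) z = y q := by
    intro p
    by_cases hp : f ∈ p.asIdeal
    · exact ⟨0, fun q h => absurd (h ▸ hp) (not_mem_comap_away f q)⟩
    · obtain ⟨q, rfl⟩ := mem_range_comap_away f hp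
      obtain ⟨z, hz⟩ := (map_bijective_away η f q).2 (y q)
      refine ⟨z, fun q' h => ?_⟩
      obtain rfl := hinj h
      exact hz
  choose x hx using hz
  exact ⟨x, funext fun q => hx _ q rfl⟩

theorem t_mul_eq_of_Nmap_eq {x x' : η.N A}
    (h : η.Nmap (algebraMap A (Localization.Away f)) x =
      η.Nmap (algebraMap A (Localization.Away f)) x') : η.t A f * x = η.t A f * x' := by
  funext p
  by_cases hp : f ∈ p.asIdeal
  · simp [(t_apply_eq_zero_iff η f p).mpr hp]
  · obtain ⟨q, rfl⟩ := mem_range_comap_away f hp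
    exact congrArg (η.t A f _ * ·) ((map_bijective_away η f q).1 (congrFun h q))

theorem finite_minimalPrimes_away (hA : (minimalPrimes A).Finite) :
    (minimalPrimes (Localization.Away f)).Finite := by
  have h := IsLocalization.minimalPrimes_map (Submonoid.powers f) (Localization.Away f) (⊥ : Ideal A)
  rw [Ideal.map_bot] at h
  refine Set.Finite.subset (Set.Finite.preimage ?_ hA) (fun p hp => h.le hp)
  intro I _ J _ hIJ
  rw [← IsLocalization.map_under (Submonoid.powers f) (Localization.Away f) I,
    ← IsLocalization.map_under (Submonoid.powers f) (Localization.Away f) J]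
  exact congrArg (Ideal.map (algebraMap A (Localization.Away f))) hIJ

theorem exists_mem_M_extend (hA : (minimalPrimes A).Finite) {y : η.N (Localization.Away f)}
    (hy : y ∈ η.M (Localization.Away f)) :
    ∃ x ∈ η.M A, ∃ n : ℕ,
        y * η.t (Localization.Away f) (algebraMap A (Localization.Away f) f) ^ n =
          η.Nmap (algebraMap A (Localization.Away f)) x := by
  classical
  let φ := algebraMap A (Localization.Away f)
  obtain ⟨x₀, hx₀⟩ := exists_extend η f y
  have hyint : ∃ N : ℕ, ((η.t (Localization.Away f)).comp φ).IsIntegralElem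
      (y * η.t _ (φ f) ^ N) := by
    obtain ⟨P, hP, hPy⟩ := isIntegral_q η (finite_minimalPrimes_away f hA) ⟨y, hy⟩
    have hPy' := congrArg (η.M (Localization.Away f)).subtype hPy
    rw [Polynomial.hom_eval₂, map_zero] at hPy'
    letI := (η.t (Localization.Away f)).toAlgebra
    letI := ((η.t (Localization.Away f)).comp φ).toAlgebra
    haveI : IsScalarTower A (Localization.Away f) (η.N (Localization.Away f)) :=
      IsScalarTower.of_algebraMap_eq fun _ => rfl
    have hint : IsIntegral (Localization.Away f) y := ⟨P, hP, hPy'⟩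
    obtain ⟨⟨m, N, rfl⟩, hm⟩ := IsIntegral.exists_multiple_integral_of_isLocalization
      (R := A) (Submonoid.powers f) y hint
    refine ⟨N, ?_⟩
    have : y * η.t _ (φ f) ^ N = (f ^ N) • y := by
      rw [Algebra.smul_def, map_pow, mul_comm]; rfl
    rw [this]
    exact hm
  obtain ⟨N, hN⟩ := hyint
  refine ⟨x₀ * η.t A f ^ (N + 1), mem_M_of_exists_val η _ fun R _ _ _ hR g => ?_, N + 1, ?_⟩
  swap
  · rw [map_mul, map_pow, hx₀, η.Nmap_t_apply]
  let F := FractionRing R
  let gF : A →+* F := (algebraMap R F).comp g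
  by_cases hgf : g f = 0
  · refine ⟨0, fun P => ?_⟩
    rw [map_mul, map_pow, val_t, RingHom.comp_apply, hgf]
    simp
  have hu : IsUnit (gF f) := IsUnit.mk0 _ fun h0 =>
    hgf (IsFractionRing.injective R F (h0.trans (map_zero _).symm))
  let gF' : Localization.Away f →+* F := IsLocalization.Away.lift f hu
  have hgF' : gF'.comp φ = gF := IsLocalization.Away.lift_comp f hu
  obtain ⟨yF, hyF, -, hV⟩ := exists_val_eq_field η hy hR gF'
  obtain ⟨s', hs'⟩ : ∃ s' : R, algebraMap R F s' = yF * gF f ^ N := by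
    obtain ⟨q, hq, hqy⟩ := hN
    have h0 := congrArg (val η gF') hqy
    have hc : (val η gF').comp ((η.t (Localization.Away f)).comp φ) = (η.eta F).comp gF :=
      RingHom.ext fun a => by
        rw [RingHom.comp_apply, RingHom.comp_apply, val_t, ← RingHom.comp_apply gF', hgF']; rfl
    rw [Polynomial.hom_eval₂, map_zero, hc, map_mul, map_pow, hyF, val_t,
      ← RingHom.comp_apply gF' φ, hgF', ← map_pow, ← map_mul, ← Polynomial.hom_eval₂] at h0
    refine IsIntegrallyClosed.isIntegral_iff.mp ⟨q.map g, hq.map g, ?_⟩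
    rw [Polynomial.eval₂_map]
    exact (η.eta F).injective (h0.trans (map_zero _).symm)
  refine ⟨s' * g f, fun P => ?_⟩
  by_cases hP : g f ∈ P.asIdeal
  · have h0 : algebraMap R P.asIdeal.ResidueField (g f) = 0 :=
      Ideal.algebraMap_residueField_eq_zero.mpr hP
    rw [map_mul, map_pow, val_t, RingHom.comp_apply, h0]
    simp [h0]
  obtain ⟨V, hVR, hres⟩ := exists_valuationSubring (algebraMap R F) P.asIdeal (by
    rw [(RingHom.injective_iff_ker_eq_bot _).mp (IsFractionRing.injective R F)]
    exact bot_le)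
  let ρ : R →+* V := (algebraMap R F).codRestrict V.toSubring hVR
  have hρu : IsUnit (ρ (g f)) := by
    by_contra h
    exact hP ((hres _).mp (IsLocalRing.residue_eq_zero_iff _ |>.mpr h))
  let gV : Localization.Away f →+* V := IsLocalization.Away.lift (g := ρ.comp g) f hρu
  have hgV : gV.comp φ = ρ.comp g := IsLocalization.Away.lift_comp f hρu
  have hVgF : V.subtype.comp gV = gF' := IsLocalization.ringHom_ext (Submonoid.powers f) (by
    rw [RingHom.comp_assoc, hgV, hgF']; rfl)
  have hmem : ∀ a, gF' a ∈ V := fun a => hVgF ▸ (gV a).2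
  obtain ⟨hyV, hK⟩ := hV V hmem
  have hcr : gF'.codRestrict V.toSubring hmem = gV :=
    RingHom.ext fun a => Subtype.ext (RingHom.congr_fun hVgF a).symm
  have h1 := hK _ (IsLocalRing.residue V)
  rw [hcr] at h1
  let hRV : R →+* IsLocalRing.ResidueField V := (IsLocalRing.residue V).comp ρ
  have huP : P.asIdeal.primeCompl ≤ (IsUnit.submonoid _).comap hRV :=
    fun a ha => IsUnit.mk0 _ fun h0 => ha ((hres a).mp h0)
  let ιP := Ideal.ResidueField.lift P.asIdeal hRV (fun a ha => (hres a).mpr ha) huP
  have hιP : ∀ a, ιP (algebraMap R P.asIdeal.ResidueField a) = hRV a :=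
    Ideal.ResidueField.lift_algebraMap _ _ _ huP
  apply (η.map ιP).injective
  rw [← val_comp_field, map_eta, hιP, map_mul, map_pow, val_t]
  have hcomp : ιP.comp ((algebraMap R P.asIdeal.ResidueField).comp g) =
      ((IsLocalRing.residue V).comp gV).comp φ := by
    rw [RingHom.comp_assoc, hgV]
    exact RingHom.ext fun a => hιP (g a)
  rw [hcomp, val_comp, hx₀, h1, ← map_pow, ← map_mul]
  refine congrArg _ ?_
  rw [RingHom.comp_apply, RingHom.comp_apply, ← RingHom.comp_apply gV φ, hgV,
    show hRV (s' * g f) = IsLocalRing.residue V (ρ (s' * g f)) from rfl, ← map_pow, ← map_mul]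
  refine congrArg _ (Subtype.ext ?_)
  show yF * algebraMap R F (g f) ^ (N + 1) = algebraMap R F (s' * g f)
  rw [map_mul, hs', pow_succ, mul_assoc]
  rfl

end Away

theorem exists_rel_away {A B : Type u} [CommRing A] [CommRing B] (hA : (minimalPrimes A).Finite)
    (φ : A →+* B) (f : A) :
    (η.rel φ).map (algebraMap B (Localization.Away (φ f))) ≤ η.rel (Localization.awayMap φ f) ∧
      ∀ y ∈ η.rel (Localization.awayMap φ f), ∃ x ∈ η.rel φ, ∃ n : ℕ,
        y * algebraMap B (Localization.Away (φ f)) (φ f) ^ n =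
          algebraMap B (Localization.Away (φ f)) x := by
  let Af := Localization.Away f
  let Bf := Localization.Away (φ f)
  have hsq : (Localization.awayMap φ f).comp (algebraMap A Af) = (algebraMap B Bf).comp φ :=
    awayMap_comp φ f
  refine ⟨?_, fun y hy => ?_⟩
  · rintro _ ⟨b, hb, rfl⟩
    exact map_mem_rel_of_comm η hsq hb
  obtain ⟨x', hx', hxy⟩ := hy
  obtain ⟨x, hx, n, hn⟩ := exists_mem_M_extend η f hA hx'
  obtain ⟨m, b, hb⟩ := IsLocalization.Away.surj (φ f) y
  let u : Bf := algebraMap B Bf (φ f)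
  have hu : Localization.awayMap φ f (algebraMap A Af f) = u := RingHom.congr_fun hsq f
  have hkey : η.Nmap (algebraMap B Bf) (η.Nmap φ (x * η.t A f ^ m)) =
      η.Nmap (algebraMap B Bf) (η.t B (b * φ f ^ n)) := by
    rw [η.Nmap_t_apply, ← RingHom.comp_apply, Nmap_comp, ← hsq, ← Nmap_comp, RingHom.comp_apply,
      map_mul, ← hn, map_mul, map_mul, hxy, map_pow, map_pow, map_pow, η.Nmap_t_apply,
      η.Nmap_t_apply, η.Nmap_t_apply, hu, map_mul, map_pow, ← hb]
    simp only [Bf, u, map_mul, map_pow]
    ring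
  refine ⟨b * φ f ^ (n + 1), ⟨x * η.t A f ^ (m + 1), ?_, ?_⟩, m + (n + 1), ?_⟩
  · exact mul_mem hx (pow_mem (η.t_mem_M A f) _)
  · have e : η.Nmap φ (x * η.t A f ^ (m + 1)) = η.t B (φ f) * η.Nmap φ (x * η.t A f ^ m) := by
      rw [map_mul, map_mul, map_pow, map_pow, η.Nmap_t_apply]; ring
    rw [e, t_mul_eq_of_Nmap_eq η (φ f) hkey, map_mul, map_pow, map_mul, map_pow]
    ring
  · rw [pow_add, ← mul_assoc, hb, map_mul, map_pow]

theorem bijective_qRel_away {A B : Type u} [CommRing A] [CommRing B]
    (hA : (minimalPrimes A).Finite) (φ : A →+* B) (h : Function.Bijective (η.qRel φ)) (f : A) :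
    Function.Bijective (η.qRel (Localization.awayMap φ f)) := by
  rw [bijective_qRel_iff] at h ⊢
  haveI : IsLocalization (Submonoid.map φ (Submonoid.powers f)) (Localization.Away (φ f)) := by
    rw [Submonoid.map_powers]; infer_instance
  refine ⟨IsLocalization.map_injective_of_injective (M := Submonoid.powers f)
    (S := Localization.Away f) (Q := Localization.Away (φ f)) h.1, fun y hy => ?_⟩
  obtain ⟨x, hx, n, hn⟩ := (exists_rel_away η hA φ f).2 y hy
  obtain ⟨a, rfl⟩ := h.2 x hx
  refine ⟨IsLocalization.mk' _ a (⟨f ^ n, n, rfl⟩ : Submonoid.powers f), ?_⟩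
  show IsLocalization.map _ φ _ _ = y
  rw [IsLocalization.map_mk', IsLocalization.mk'_eq_iff_eq_mul, ← hn]
  simp

theorem bijective_qRel_of_away {A B : Type u} [CommRing A] [CommRing B]
    (φ : A →+* B) (s : Finset A) (hspan : Ideal.span (s : Set A) = ⊤)
    (h : ∀ f ∈ s, Function.Bijective (η.qRel (Localization.awayMap φ f))) :
    Function.Bijective (η.qRel φ) := by
  rw [bijective_qRel_iff]
  have hsq : ∀ f : A, (Localization.awayMap φ f).comp (algebraMap A (Localization.Away f)) =
      (algebraMap B (Localization.Away (φ f))).comp φ :=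
    fun f => awayMap_comp φ f
  have key : ∀ I : Ideal A, (∀ f ∈ s, ∃ n, f ^ n ∈ I) → I = ⊤ := by
    intro I hI
    rw [← Ideal.radical_eq_top, eq_top_iff, ← hspan, Ideal.span_le]
    exact fun f hf => hI f hf
  refine ⟨(injective_iff_map_eq_zero φ).mpr fun a ha => ?_, fun b hb => ?_⟩
  · have := key ((⊥ : Ideal A).colon {a}) fun f hf => ?_
    · rw [Ideal.eq_top_iff_one, Submodule.mem_colon_singleton] at this
      simpa using this
    have h0 : Localization.awayMap φ f (algebraMap A _ a) = 0 := by
      rw [← RingHom.comp_apply, hsq, RingHom.comp_apply, ha, map_zero]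
    obtain ⟨⟨_, n, rfl⟩, hn⟩ := (IsLocalization.map_eq_zero_iff (Submonoid.powers f)
      (Localization.Away f) a).mp (((bijective_qRel_iff η _).mp (h f hf)).1
        (h0.trans (map_zero _).symm))
    exact ⟨n, Submodule.mem_colon_singleton.mpr (by simpa [smul_eq_mul] using hn)⟩
  · let I : Ideal A :=
      { carrier := {a | φ a * b ∈ φ.range}
        add_mem' := fun {x y} hx hy => by
          show φ (x + y) * b ∈ φ.range
          rw [map_add, add_mul]; exact add_mem hx hy
        zero_mem' := by show φ 0 * b ∈ φ.range; simp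
        smul_mem' := fun c x hx => by
          show φ (c * x) * b ∈ φ.range
          rw [map_mul, mul_assoc]; exact mul_mem ⟨c, rfl⟩ hx }
    suffices hI : I = ⊤ by
      obtain ⟨a, ha⟩ : (1 : A) ∈ I := hI ▸ Submodule.mem_top
      exact ⟨a, by simpa using ha⟩
    refine key I fun f hf => ?_
    have hbf := map_mem_rel_of_comm η (hsq f) hb
    obtain ⟨c, hc⟩ := ((bijective_qRel_iff η _).mp (h f hf)).2 _ hbf
    obtain ⟨n, a, ha⟩ := IsLocalization.Away.surj f c
    have e : algebraMap B (Localization.Away (φ f)) (φ f ^ n * b) =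
        algebraMap B (Localization.Away (φ f)) (φ a) := by
      rw [← RingHom.comp_apply _ φ a, ← hsq, RingHom.comp_apply, ← ha,
        map_mul (Localization.awayMap φ f), hc, map_pow (Localization.awayMap φ f),
        ← RingHom.comp_apply (Localization.awayMap φ f), hsq, RingHom.comp_apply, map_mul, map_pow,
        mul_comm]
    obtain ⟨⟨_, k, rfl⟩, hk⟩ := (IsLocalization.eq_iff_exists (Submonoid.powers (φ f))
      (Localization.Away (φ f))).mp e
    refine ⟨k + n, f ^ k * a, ?_⟩
    simp only [map_mul, map_pow, pow_add, mul_assoc]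
    exact hk.symm

theorem bijective_q_of_isNormalRing {A : Type u} [CommRing A] (hn : EGA4.IsNormalRing A)
    (hA : (minimalPrimes A).Finite)
    (hη : ∀ p : PrimeSpectrum A, p.asIdeal ∈ minimalPrimes A →
      Function.Bijective (η.eta p.asIdeal.ResidueField)) :
    Function.Bijective (η.q A) := by
  classical
  haveI hred : IsReduced A := ⟨fun x hx => MaximalSpectrum.toPiLocalization_injective A <|
    funext fun m => by
      haveI := (hn m.asIdeal).1
      have := (hx.map (algebraMap A (Localization.AtPrime m.asIdeal))).eq_zero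
      exact this.trans (by rw [map_zero]; rfl)⟩
  refine ⟨fun a b h => t_injective η (congrArg Subtype.val h), fun x => ?_⟩
  let I : Ideal A :=
    { carrier := {s | η.t A s * (x : η.N A) ∈ (η.t A).range}
      add_mem' := fun {a b} ha hb => by
        show η.t A (a + b) * (x : η.N A) ∈ (η.t A).range
        rw [map_add, add_mul]; exact add_mem ha hb
      zero_mem' := by show η.t A 0 * (x : η.N A) ∈ (η.t A).range; simp
      smul_mem' := fun c a ha => by
        show η.t A (c * a) * (x : η.N A) ∈ (η.t A).range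
        rw [map_mul, mul_assoc]; exact mul_mem ⟨c, rfl⟩ ha }
  suffices hI : I = ⊤ by
    obtain ⟨a, ha⟩ : (1 : A) ∈ I := hI ▸ Submodule.mem_top
    exact ⟨a, Subtype.ext (ha.trans (by rw [map_one, one_mul]))⟩
  by_contra hI
  obtain ⟨m, hm, hIm⟩ := Ideal.exists_le_maximal I hI
  haveI := (hn m).1
  haveI := (hn m).2
  let L := Localization.AtPrime m
  let F := FractionRing L
  let π : A →+* F := (algebraMap L F).comp (algebraMap A L)
  have hmemK : ∀ a, a ∈ RingHom.ker π ↔ ∃ u : m.primeCompl, (u : A) * a = 0 := fun a => by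
    rw [RingHom.mem_ker, RingHom.comp_apply, map_eq_zero_iff _ (IsFractionRing.injective L F),
      IsLocalization.map_eq_zero_iff m.primeCompl]
  haveI hK : (RingHom.ker π).IsPrime := RingHom.ker_isPrime π
  have hKle : ∀ q : Ideal A, q.IsPrime → q ≤ m → RingHom.ker π ≤ q := by
    intro q hq hqm a ha
    obtain ⟨u, hu⟩ := (hmemK a).mp ha
    exact (hq.mem_or_mem (hu ▸ q.zero_mem)).resolve_left fun h => u.2 (hqm h)
  have hKm : RingHom.ker π ≤ m := hKle m hm.isPrime le_rfl
  have hmin : RingHom.ker π ∈ minimalPrimes A := by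
    obtain ⟨q, hq, hqK⟩ := Ideal.exists_minimalPrimes_le (bot_le : ⊥ ≤ RingHom.ker π)
    exact (le_antisymm (hKle q hq.1.1 (hqK.trans hKm)) hqK) ▸ hq
  let p : PrimeSpectrum A := ⟨RingHom.ker π, hK⟩
  obtain ⟨w, hw⟩ := (hη p hmin).2 ((x : η.N A) p)
  have hwint : (algebraMap A p.asIdeal.ResidueField).IsIntegralElem w := by
    obtain ⟨P, hP, hPw⟩ := isIntegralElem_component η x.2 p
    refine ⟨P, hP, (η.eta _).injective ?_⟩
    rw [Polynomial.hom_eval₂, map_zero, hw]
    exact hPw
  have hup : p.asIdeal.primeCompl ≤ (IsUnit.submonoid F).comap π :=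
    fun a ha => IsUnit.mk0 _ fun h0 => ha h0
  let l := Ideal.ResidueField.lift p.asIdeal π le_rfl hup
  have hl : ∀ a, l (algebraMap A p.asIdeal.ResidueField a) = π a :=
    Ideal.ResidueField.lift_algebraMap _ _ _ hup
  obtain ⟨c, hc⟩ : ∃ c : L, algebraMap L F c = l w := by
    obtain ⟨P, hP, hPw⟩ := hwint
    refine IsIntegrallyClosed.isIntegral_iff.mp ⟨P.map (algebraMap A L), hP.map _, ?_⟩
    have h0 := congrArg l hPw
    rw [map_zero, Polynomial.hom_eval₂,
      show l.comp (algebraMap A p.asIdeal.ResidueField) = π from RingHom.ext hl] at h0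
    rw [Polynomial.eval₂_map]
    exact h0
  obtain ⟨⟨a, s⟩, hs⟩ := IsLocalization.surj m.primeCompl c
  have hws : w * algebraMap A _ (s : A) = algebraMap A p.asIdeal.ResidueField a :=
    l.injective (by rw [map_mul, hl, hl, ← hc]; exact (map_mul _ _ _).symm.trans (congrArg _ hs))
  have hsel : ∀ q ∈ hA.toFinset.erase p.asIdeal, ∃ v ∈ q, v ∉ m := by
    intro q hq
    rw [Finset.mem_erase, Set.Finite.mem_toFinset] at hq
    by_contra h
    push Not at h
    exact hq.1 (le_antisymm (hq.2.2 ⟨hK, bot_le⟩ (hKle q hq.2.1.1 h)) (hKle q hq.2.1.1 h))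
  choose! v hv hvm using hsel
  let U := ∏ q ∈ hA.toFinset.erase p.asIdeal, v q
  have hUm : U ∉ m := fun h => by
    obtain ⟨q, hq, hq'⟩ := (Ideal.IsPrime.prod_mem_iff (p := m)).mp h
    exact hvm q hq hq'
  refine (hm.isPrime.mem_or_mem (hIm (show (s : A) * U ∈ I from ?_))).elim s.2 hUm
  refine ⟨a * U, eq_of_minimalPrimes η (η.t_mem_M A _) (mul_mem (η.t_mem_M A _) x.2) fun q hq => ?_⟩
  by_cases hqp : q.asIdeal = p.asIdeal
  · obtain rfl : q = p := PrimeSpectrum.ext hqp
    show η.eta _ (algebraMap A _ (a * U)) =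
      η.eta _ (algebraMap A _ ((s : A) * U)) * (x : η.N A) p
    rw [← hw, ← map_mul, map_mul _ a, ← hws, map_mul _ (s : A)]
    exact congrArg _ (by ring)
  · have hU : U ∈ q.asIdeal := (Ideal.IsPrime.prod_mem_iff (p := q.asIdeal)).mpr
      ⟨q.asIdeal, Finset.mem_erase.mpr ⟨hqp, hA.mem_toFinset.mpr hq⟩,
        hv _ (Finset.mem_erase.mpr ⟨hqp, hA.mem_toFinset.mpr hq⟩)⟩
    show η.t A (a * U) q = η.t A ((s : A) * U) q * (x : η.N A) q
    rw [(t_apply_eq_zero_iff η _ q).mpr (Ideal.mul_mem_left _ _ hU),
      (t_apply_eq_zero_iff η _ q).mpr (Ideal.mul_mem_left _ _ hU), zero_mul]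

theorem comp_qRel_bijective {A B C : Type u} [CommRing A] [CommRing B] [CommRing C]
    (f : A →+* B) (g : B →+* C) (hg : Function.Surjective (PrimeSpectrum.comap g))
    (h₁ : Function.Bijective (η.qRel f)) (h₂ : Function.Bijective (η.qRel g)) :
    Function.Bijective (η.qRel (g.comp f)) := by
  rw [bijective_qRel_iff] at h₁ h₂ ⊢
  refine ⟨h₂.1.comp h₁.1, fun c hc => ?_⟩
  obtain ⟨x, hx, hxc⟩ := hc
  rw [← Nmap_comp, RingHom.comp_apply] at hxc
  obtain ⟨b, rfl⟩ := h₂.2 c ⟨η.Nmap f x, Nmap_mem_M η f hx, hxc⟩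
  have hb : η.Nmap f x = η.t B b :=
    Rel.injective_Nmap η g hg (hxc.trans (η.Nmap_t_apply g b).symm)
  obtain ⟨a, rfl⟩ := h₁.2 b ⟨x, hx, hb⟩
  exact ⟨a, rfl⟩

theorem qRel_bijective_of_comp {A B C : Type u} [CommRing A] [CommRing B] [CommRing C]
    (f : A →+* B) (g : B →+* C) (hg : Function.Injective g)
    (h : Function.Bijective (η.qRel (g.comp f))) : Function.Bijective (η.qRel f) := by
  rw [bijective_qRel_iff] at h ⊢
  refine ⟨fun a b e => h.1 (congrArg g e), fun b hb => ?_⟩
  obtain ⟨a, ha⟩ := h.2 _ (map_mem_rel_of_comm η (f := RingHom.id A) (j := f) (g := g)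
    (RingHom.comp_id _) hb)
  exact ⟨a, hg ha⟩

theorem qRel_bijective_of_cartesian {A A' B B' : Type u} [CommRing A] [CommRing A'] [CommRing B]
    [CommRing B'] (j : A →+* B) (f : A →+* A') (g : B →+* B') (j' : A' →+* B')
    (hcomm : j'.comp f = g.comp j)
    (hcart : ∀ (a' : A') (b : B), j' a' = g b → ∃! a : A, f a = a' ∧ j a = b)
    (h : Function.Bijective (η.qRel j')) : Function.Bijective (η.qRel j) := by
  rw [bijective_qRel_iff] at h ⊢
  refine ⟨(injective_iff_map_eq_zero j).mpr fun a ha => ?_, fun b hb => ?_⟩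
  · have hf : f a = 0 := h.1 (by
      rw [← RingHom.comp_apply, hcomm, RingHom.comp_apply, ha, map_zero, map_zero])
    exact (hcart 0 0 (by rw [map_zero, map_zero])).unique ⟨hf, ha⟩ ⟨map_zero f, map_zero j⟩
  · obtain ⟨a', ha'⟩ := h.2 _ (map_mem_rel_of_comm η hcomm hb)
    obtain ⟨a, ⟨-, ha⟩, -⟩ := hcart a' b ha'
    exact ⟨a, ha⟩

open scoped TensorProduct in
theorem qRel_bijective_descent (A A' B : Type u) [CommRing A] [CommRing A'] [CommRing B]
    [Algebra A A'] [Algebra A B] [Module.FaithfullyFlat A A']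
    (h : Function.Bijective
      (η.qRel (Algebra.TensorProduct.includeLeftRingHom : A' →+* A' ⊗[A] B))) :
    Function.Bijective (η.qRel (algebraMap A B)) := by
  rw [bijective_qRel_iff] at h ⊢
  let ι : B →+* A' ⊗[A] B := (Algebra.TensorProduct.includeRight).toRingHom
  have hcomm : (Algebra.TensorProduct.includeLeftRingHom : A' →+* A' ⊗[A] B).comp (algebraMap A A')
      = ι.comp (algebraMap A B) := RingHom.ext fun a => by
    show algebraMap A A' a ⊗ₜ[A] (1 : B) = (1 : A') ⊗ₜ[A] algebraMap A B a
    rw [Algebra.algebraMap_eq_smul_one, Algebra.algebraMap_eq_smul_one, TensorProduct.smul_tmul]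
  refine ⟨(injective_iff_map_eq_zero _).mpr fun a ha => ?_, fun b hb => ?_⟩
  · refine FaithfulSMul.algebraMap_injective A A' ?_
    rw [map_zero]
    apply h.1
    rw [← RingHom.comp_apply, hcomm, RingHom.comp_apply, ha, map_zero, map_zero]
  · obtain ⟨a', ha'⟩ := h.2 _ (map_mem_rel_of_comm η hcomm hb)
    let S : Submodule A B := LinearMap.range (Algebra.linearMap A B)
    have h0 : (1 : A') ⊗ₜ[A] (S.mkQ b) = 0 := by
      have e := congrArg (S.mkQ.lTensor A') ha'
      have e' : S.mkQ (1 : B) = 0 :=
        (Submodule.Quotient.mk_eq_zero S).mpr ⟨1, map_one (algebraMap A B)⟩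
      simp only [Algebra.TensorProduct.includeLeftRingHom_apply, ι, AlgHom.toRingHom_eq_coe,
        RingHom.coe_coe, Algebra.TensorProduct.includeRight_apply, LinearMap.lTensor_tmul, e',
        TensorProduct.tmul_zero] at e
      exact e.symm
    rw [Module.FaithfullyFlat.one_tmul_eq_zero_iff] at h0
    obtain ⟨a, ha⟩ := (Submodule.Quotient.mk_eq_zero S).mp h0
    exact ⟨a, ha⟩

theorem qRel_integralClosure_descent (A A' : Type u) [CommRing A] [CommRing A'] [Algebra A A']
    [Module.FaithfullyFlat A A']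
    (h : Function.Bijective (η.qRel (algebraMap A' (integralClosure A' (FractionRing A'))))) :
    Function.Bijective (η.qRel (algebraMap A (integralClosure A (FractionRing A)))) := by
  rw [bijective_qRel_iff] at h ⊢
  have hnzd : nonZeroDivisors A ≤ (nonZeroDivisors A').comap (algebraMap A A') := by
    intro s hs
    rw [Submonoid.mem_comap, mem_nonZeroDivisors_iff_right]
    intro x hx
    have hr : IsSMulRegular A s := fun a b e => mul_cancel_left_mem_nonZeroDivisors hs |>.mp e
    refine hr.of_flat (S := A') ?_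
    simpa [mul_comm] using hx
  let ι : FractionRing A →+* FractionRing A' :=
    IsLocalization.map (FractionRing A') (algebraMap A A') hnzd
  have hι : ∀ a, ι (algebraMap A _ a) = algebraMap A' _ (algebraMap A A' a) :=
    fun a => IsLocalization.map_eq hnzd a
  let ιC : integralClosure A (FractionRing A) →+* integralClosure A' (FractionRing A') :=
    { toFun := fun c => ⟨ι c, by
        obtain ⟨P, hP, hPc⟩ := c.2
        refine ⟨P.map (algebraMap A A'), hP.map _, ?_⟩
        rw [Polynomial.eval₂_map, ← show ι.comp (algebraMap A (FractionRing A)) =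
          (algebraMap A' (FractionRing A')).comp (algebraMap A A') from RingHom.ext hι,
          ← Polynomial.hom_eval₂, hPc, map_zero]⟩
      map_one' := Subtype.ext (map_one ι)
      map_mul' := fun a b => Subtype.ext (map_mul ι _ _)
      map_zero' := Subtype.ext (map_zero ι)
      map_add' := fun a b => Subtype.ext (map_add ι _ _) }
  have hcomm : (algebraMap A' (integralClosure A' (FractionRing A'))).comp (algebraMap A A') =
      ιC.comp (algebraMap A (integralClosure A (FractionRing A))) :=
    RingHom.ext fun a => Subtype.ext (hι a).symm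
  refine ⟨fun a b e => IsFractionRing.injective A (FractionRing A) (congrArg Subtype.val e),
    fun c hc => ?_⟩
  obtain ⟨a', ha'⟩ := h.2 _ (map_mem_rel_of_comm η hcomm hc)
  have ha'' : algebraMap A' (FractionRing A') a' = ι c := congrArg Subtype.val ha'
  obtain ⟨⟨a, s⟩, has⟩ := IsLocalization.surj (nonZeroDivisors A) (c : FractionRing A)
  have e : a' * algebraMap A A' (s : A) = algebraMap A A' a := by
    apply IsFractionRing.injective A' (FractionRing A')
    rw [map_mul, ha'', ← hι, ← map_mul, has, hι]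
  have hamem : a ∈ Ideal.span {(s : A)} := by
    rw [← Ideal.comap_map_eq_self_of_faithfullyFlat (B := A') (Ideal.span {(s : A)}),
      Ideal.mem_comap, Ideal.map_span, Set.image_singleton, Ideal.mem_span_singleton]
    exact ⟨a', by rw [← e, mul_comm]⟩
  obtain ⟨a₀, rfl⟩ := Ideal.mem_span_singleton'.mp hamem
  refine ⟨a₀, Subtype.ext ?_⟩
  have hu := IsLocalization.map_units (FractionRing A) s
  apply hu.mul_left_injective
  show algebraMap A (FractionRing A) a₀ * algebraMap A _ (s : A) = c * algebraMap A _ (s : A)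
  rw [has, map_mul]

theorem map_M {A B : Type u} [CommRing A] [CommRing B]
    (hA : (minimalPrimes A).Finite) (hB : (minimalPrimes B).Finite) (f : A →+* B)
    (g : η.M A →+* η.M B) (hg : ∀ x : η.M A, ((g x : η.M B) : η.N B) = η.Nmap f (x : η.N A)) :
    g.comp (η.q A) = (η.q B).comp f ∧
      ((f.IsIntegral ↔ g.IsIntegral) ∧
      (Function.Surjective (PrimeSpectrum.comap f) ↔ Function.Surjective (PrimeSpectrum.comap g))) ∧
    (Function.Bijective g → Function.Bijective (PrimeSpectrum.comap f) ∧
      ∀ Q : PrimeSpectrum B, Rel.Factor η f Q) := by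
  have hsq : g.comp (η.q A) = (η.q B).comp f :=
    RingHom.ext fun a => Subtype.ext ((hg _).trans (η.Nmap_t_apply f a))
  have hcs : PrimeSpectrum.comap (η.q A) ∘ PrimeSpectrum.comap g =
      PrimeSpectrum.comap f ∘ PrimeSpectrum.comap (η.q B) := by
    rw [← PrimeSpectrum.comap_comp, ← PrimeSpectrum.comap_comp, hsq]
  have hqa := comap_q_bijective η hA
  have hqb := comap_q_bijective η hB
  refine ⟨hsq, ⟨⟨fun hf => ?_, fun hgi b => ?_⟩, ?_⟩, fun hbij => ?_⟩
  · refine RingHom.IsIntegral.tower_top (η.q A) g ?_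
    rw [hsq]
    exact RingHom.IsIntegral.trans _ _ hf (isIntegral_q η hB)
  · have h := RingHom.IsIntegral.trans _ _ (isIntegral_q η hA) hgi
    rw [hsq] at h
    obtain ⟨P, hP, hPb⟩ := h (η.q B b)
    rw [← Polynomial.hom_eval₂] at hPb
    obtain ⟨n, hn⟩ := (t_eq_zero_iff η (Polynomial.eval₂ f b P)).mp (congrArg Subtype.val hPb)
    exact ⟨P ^ n, hP.pow n, by rw [Polynomial.eval₂_pow, hn]⟩
  · rw [← hqb.2.of_comp_iff (PrimeSpectrum.comap f), ← hcs,
      ← Function.Surjective.of_comp_iff' hqa (PrimeSpectrum.comap g)]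
  · let e := RingEquiv.ofBijective g hbij
    have hgb : Function.Bijective (PrimeSpectrum.comap g) := (PrimeSpectrum.comapEquiv e.symm).bijective
    have hfb : Function.Bijective (PrimeSpectrum.comap f) := by
      have h := hqa.comp hgb
      rw [hcs] at h
      exact (Function.Bijective.of_comp_iff _ hqb).mp h
    refine ⟨hfb, fun Q => ?_⟩
    obtain ⟨R, rfl⟩ := hqb.2 Q
    obtain ⟨R', rfl⟩ : ∃ R', PrimeSpectrum.comap e.symm.toRingHom R' = R :=
      (PrimeSpectrum.comapEquiv e).surjective R
    have hh : (e.symm.toRingHom.comp (η.q B)).comp f = η.q A := by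
      rw [RingHom.comp_assoc, ← hsq]
      exact RingHom.ext fun a => e.symm_apply_apply _
    have hfac := Rel.factor_q η hA R'
    rw [← hh] at hfac
    exact hfac.of_comp

end Groth.Agent.EtaPtLib.Local
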