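import Groth.Agent.EtaPtLib.Basic
import Groth.Agent.UnivHomeo.Basic
import Mathlib.RingTheory.Ideal.MinimalPrime.Localization
import Mathlib.FieldTheory.Perfect

/-! Further theory of `EtaPt`: relative construction, valuation rings, identity endofunctor. -/

set_option linter.style.haveILetI false

universe u

namespace Groth.Agent.EtaPtLib.Rel

open EtaPt Groth.Agent.EtaPtLib.Basic

variable (η : FieldEndo.{u}) {A B C : Type u} [CommRing A] [CommRing B] [CommRing C]

theorem injective_Nmap (f : A →+* B) (hs : Function.Surjective (PrimeSpectrum.comap f)) :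
    Function.Injective (η.Nmap f) := fun x y h => funext fun p => by
  obtain ⟨q, rfl⟩ := hs p
  exact (η.map (Ideal.ResidueField.map (PrimeSpectrum.comap f q).asIdeal q.asIdeal f rfl)).injective
    (congrFun h q)

section RelHom

variable (f : A →+* B) (hs : Function.Surjective (PrimeSpectrum.comap f))

/-- the map from the relative ring to `M A` -/
noncomputable def relPre (b : η.rel f) : η.M A :=
  ⟨b.2.choose, b.2.choose_spec.1⟩

theorem relPre_spec (b : η.rel f) : η.Nmap f (relPre η f b : η.N A) = η.t B b :=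
  b.2.choose_spec.2

/-- the ring homomorphism from the relative ring to `M A` -/
noncomputable def relHom : η.rel f →+* η.M A where
  toFun := relPre η f
  map_one' := Subtype.ext (injective_Nmap η f hs (by simp [relPre_spec]))
  map_mul' a b := Subtype.ext (injective_Nmap η f hs (by
    rw [relPre_spec, Subring.coe_mul, Subring.coe_mul, map_mul, map_mul, relPre_spec, relPre_spec]))
  map_zero' := Subtype.ext (injective_Nmap η f hs (by simp [relPre_spec]))
  map_add' a b := Subtype.ext (injective_Nmap η f hs (by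
    rw [relPre_spec, Subring.coe_add, Subring.coe_add, map_add, map_add, relPre_spec, relPre_spec]))

theorem relHom_comp_qRel : (relHom η f hs).comp (η.qRel f) = η.q A :=
  RingHom.ext fun a => Subtype.ext (injective_Nmap η f hs ((relPre_spec η f _).trans
    (η.Nmap_t_apply f a).symm))

theorem isNilpotent_of_relHom_eq_zero {b : η.rel f} (h : relHom η f hs b = 0) : IsNilpotent b := by
  have h1 := relPre_spec η f b
  have h2 : (relPre η f b : η.N A) = 0 := congrArg Subtype.val h
  rw [h2, map_zero] at h1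
  obtain ⟨n, hn⟩ := (t_eq_zero_iff η (b : B)).mp h1.symm
  exact ⟨n, Subtype.ext hn⟩

theorem isIntegral_qRel (hA : (minimalPrimes A).Finite)
    (hs : Function.Surjective (PrimeSpectrum.comap f)) : (η.qRel f).IsIntegral := by
  intro b
  obtain ⟨p, hp, hpb⟩ := isIntegral_q η hA (relHom η f hs b)
  have h0 : relHom η f hs (Polynomial.eval₂ (η.qRel f) b p) = 0 := by
    rw [Polynomial.hom_eval₂, relHom_comp_qRel, hpb]
  obtain ⟨n, hn⟩ := isNilpotent_of_relHom_eq_zero η f hs h0
  exact ⟨p ^ n, hp.pow n, by rw [Polynomial.eval₂_pow, hn]⟩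

theorem comap_relHom_surjective (hA : (minimalPrimes A).Finite) :
    Function.Surjective (PrimeSpectrum.comap (relHom η f hs)) := by
  intro P
  have hint : (relHom η f hs).IsIntegral := by
    refine RingHom.IsIntegral.tower_top (η.qRel f) _ ?_
    rw [relHom_comp_qRel]
    exact isIntegral_q η hA
  letI := (relHom η f hs).toAlgebra
  haveI : Algebra.IsIntegral (η.rel f) (η.M A) := ⟨hint⟩
  obtain ⟨Q, -, hQ, hQP⟩ := Ideal.exists_ideal_over_prime_of_isIntegral P.asIdeal (⊥ : Ideal (η.M A))
    (fun b hb => by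
      have : IsNilpotent b := isNilpotent_of_relHom_eq_zero η f hs hb
      exact nilpotent_iff_mem_prime.mp this P.asIdeal P.2)
  exact ⟨⟨Q, hQ⟩, PrimeSpectrum.ext hQP⟩

end RelHom

/-- residue field factorisation of `η` -/
def Factor (g : A →+* B) (Q : PrimeSpectrum B) : Prop :=
  ∃ φ : Q.asIdeal.ResidueField →+* η.obj (PrimeSpectrum.comap g Q).asIdeal.ResidueField,
    φ.comp (Ideal.ResidueField.map (PrimeSpectrum.comap g Q).asIdeal Q.asIdeal g rfl) =
      η.eta (PrimeSpectrum.comap g Q).asIdeal.ResidueField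

theorem Factor.of_comp (f : A →+* B) (g : B →+* C) (Q : PrimeSpectrum C)
    (h : Factor η (g.comp f) Q) : Factor η f (PrimeSpectrum.comap g Q) := by
  obtain ⟨φ, hφ⟩ := h
  refine ⟨φ.comp (Ideal.ResidueField.map (PrimeSpectrum.comap g Q).asIdeal Q.asIdeal g rfl), ?_⟩
  refine (RingHom.comp_assoc _ _ _).trans ?_
  exact (congrArg φ.comp (Groth.Agent.UnivHomeo.Basic.residueFieldMap_comp f g (g.comp f) rfl
      (PrimeSpectrum.comap f (PrimeSpectrum.comap g Q)).asIdeal
      (PrimeSpectrum.comap g Q).asIdeal Q.asIdeal rfl rfl rfl)).trans hφ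

theorem factor_q (hA : (minimalPrimes A).Finite) (Q : PrimeSpectrum (η.M A)) :
    Factor η (η.q A) Q := by
  obtain ⟨φ, -, h⟩ := exists_residue_factor_q η hA Q
  exact ⟨φ, h⟩

theorem factor_qRel (hA : (minimalPrimes A).Finite) (f : A →+* B)
    (hs : Function.Surjective (PrimeSpectrum.comap f)) (Q : PrimeSpectrum (η.rel f)) :
    Factor η (η.qRel f) Q := by
  obtain ⟨Q', rfl⟩ := comap_relHom_surjective η f hs hA Q
  have h := factor_q η hA Q'
  rw [← relHom_comp_qRel η f hs] at h
  exact h.of_comp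

theorem comap_qRel_bijective (hA : (minimalPrimes A).Finite) (f : A →+* B)
    (hs : Function.Surjective (PrimeSpectrum.comap f)) :
    Function.Bijective (PrimeSpectrum.comap (η.qRel f)) := by
  have hι := comap_relHom_surjective η f hs hA
  have hb := comap_q_bijective η hA
  rw [← relHom_comp_qRel η f hs, PrimeSpectrum.comap_comp] at hb
  have hιb : Function.Bijective (PrimeSpectrum.comap (relHom η f hs)) :=
    ⟨hb.1.of_comp, hι⟩
  exact (Function.Bijective.of_comp_iff _ hιb).mp hb

theorem bijective_Nmap_qRel (hA : (minimalPrimes A).Finite) (f : A →+* B)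
    (hs : Function.Surjective (PrimeSpectrum.comap f)) : Function.Bijective (η.Nmap (η.qRel f)) :=
  bijective_Nmap_of η _ (comap_qRel_bijective η hA f hs) fun Q => by
    obtain ⟨φ, hφ⟩ := factor_qRel η hA f hs Q
    exact bijective_map_of_factor η _ φ hφ

theorem range_le_rel (f₁ : A →+* B) (f₂ : B →+* C) (h₁ : f₁.IsIntegral)
    (hN : Function.Bijective (η.Nmap f₁)) : f₂.range ≤ η.rel (f₂.comp f₁) := by
  rintro _ ⟨b, rfl⟩
  obtain ⟨x, hx⟩ := hN.2 (η.t B b)
  refine ⟨x, (mem_M_iff_Nmap_mem η h₁ hN x).mpr (hx ▸ η.t_mem_M B b), ?_⟩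
  rw [← Nmap_comp, RingHom.comp_apply, hx, η.Nmap_t_apply]

theorem finite_minimalPrimes_M (hA : (minimalPrimes A).Finite) :
    (minimalPrimes (η.M A)).Finite := by
  classical
  have hfin : {p : PrimeSpectrum A | p.asIdeal ∈ minimalPrimes A}.Finite :=
    hA.preimage fun _ _ _ _ h => PrimeSpectrum.ext h
  refine (hfin.image fun p => RingHom.ker (ev η A p)).subset fun P hP => ?_
  haveI := hP.1.1
  have hinf : hfin.toFinset.inf (fun p => RingHom.ker (ev η A p)) ≤ P := by
    intro x hx
    have : x = 0 := Subtype.ext (eq_zero_of_minimalPrimes η x.2 fun p hp =>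
      Finset.inf_le (f := fun p => RingHom.ker (ev η A p)) (hfin.mem_toFinset.mpr hp) hx)
    exact this ▸ zero_mem _
  obtain ⟨p, hp, hle⟩ := (Ideal.IsPrime.inf_le' hP.1.1).mp hinf
  exact ⟨p, hfin.mem_toFinset.mp hp, le_antisymm hle (hP.2 ⟨RingHom.ker_isPrime _, bot_le⟩ hle)⟩

theorem isReduced_M : IsReduced (η.M A) :=
  isReduced_of_injective (η.M A).subtype Subtype.val_injective

theorem mem_M_iff_of_integral_surjective (f : A →+* B) (hf : f.IsIntegral)
    (hs : Function.Surjective (PrimeSpectrum.comap f)) (x : η.N A) :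
    x ∈ η.M A ↔ η.Nmap f x ∈ η.M B := by
  refine ⟨fun h => Nmap_mem_M η f h, fun h => mem_M_of_exists_val η x fun R _ _ _ hR g => ?_⟩
  let K := FractionRing R
  let gK : A →+* K := (algebraMap R K).comp g
  let Ω := AlgebraicClosure K
  let L := η.obj Ω
  obtain ⟨q, hq⟩ := hs (pt gK)
  obtain ⟨g₂, hg₂, -⟩ := Groth.Agent.UnivHomeo.Basic.exists_extend_of_isIntegral hf
    ((algebraMap K Ω).comp gK) q.asIdeal (by
      rw [RingHom.ker_comp_of_injective _ (algebraMap K Ω).injective]
      exact (congrArg PrimeSpectrum.asIdeal hq).symm)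
  let h' : K →+* L := (η.eta Ω).comp (algebraMap K Ω)
  let gL : B →+* L := (η.eta Ω).comp g₂
  have hgL : gL.comp f = h'.comp gK := by
    simp only [gL, h', RingHom.comp_assoc, hg₂]
  obtain ⟨y, hy, hint, hV⟩ := exists_val_eq_field η h (bijective_eta_obj η Ω) gL
  obtain ⟨r0, hr0⟩ := hR.2 (val η gK x)
  have hyr : y = h' r0 := by
    apply (bijective_eta_obj η Ω).1
    rw [← hy, ← val_comp, hgL, val_comp_field, ← hr0, map_eta]
  have hh'inj : Function.Injective (h'.comp (algebraMap R K)) :=
    h'.injective.comp (IsFractionRing.injective R K)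
  have hA' : ∀ b, ((h'.comp (algebraMap R K)).comp g).IsIntegralElem (gL b) := by
    intro b
    obtain ⟨p, hp, hpb⟩ := hf b
    refine ⟨p, hp, ?_⟩
    have := congrArg gL hpb
    rw [map_zero, Polynomial.hom_eval₂, hgL] at this
    exact this
  have hR' : ∀ b, (h'.comp (algebraMap R K)).IsIntegralElem (gL b) := by
    intro b
    obtain ⟨p, hp, hpb⟩ := hA' b
    exact ⟨p.map g, hp.map g, by rw [Polynomial.eval₂_map]; exact hpb⟩
  have hyint : (h'.comp (algebraMap R K)).IsIntegralElem y := by
    letI := gL.toAlgebra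
    letI := (h'.comp (algebraMap R K)).toAlgebra
    let S : Subalgebra R L := integralClosure R L
    obtain ⟨p, hp, hpy⟩ := hint
    have hmem : ∀ b, gL b ∈ S := hR'
    have : IsIntegral S y := ⟨p.map (gL.codRestrict S hmem), hp.map _, by
      rw [Polynomial.eval₂_map]; exact hpy⟩
    exact isIntegral_trans y this
  have hr0int : IsIntegral R r0 := by
    obtain ⟨p, hp, hpy⟩ := hyint
    refine ⟨p, hp, h'.injective ?_⟩
    rw [Polynomial.hom_eval₂, map_zero, ← hyr]
    exact hpy
  obtain ⟨r, hr⟩ := IsIntegrallyClosed.isIntegral_iff.mp hr0int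
  refine ⟨r, fun P => ?_⟩
  obtain ⟨V, hVR, hres⟩ := exists_valuationSubring (h'.comp (algebraMap R K)) P.asIdeal (by
    rw [RingHom.ker_eq_bot_iff_eq_zero _ |>.mpr fun a ha => hh'inj (ha.trans (map_zero _).symm)]
    exact bot_le)
  have hVB : ∀ b, gL b ∈ V := by
    intro b
    obtain ⟨p, hp, hpb⟩ := hR' b
    have : IsIntegral V (gL b) :=
      ⟨p.map ((h'.comp (algebraMap R K)).codRestrict V.toSubring hVR), hp.map _, by
        rw [Polynomial.eval₂_map]; exact hpb⟩
    obtain ⟨v, hv⟩ := IsIntegrallyClosed.isIntegral_iff.mp this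
    exact hv ▸ v.2
  obtain ⟨hyV, hK⟩ := hV V hVB
  have h1 := hK _ (IsLocalRing.residue V)
  rw [← val_comp] at h1
  let hRV : R →+* IsLocalRing.ResidueField V :=
    (IsLocalRing.residue V).comp ((h'.comp (algebraMap R K)).codRestrict V.toSubring hVR)
  have hu : P.asIdeal.primeCompl ≤ (IsUnit.submonoid _).comap hRV :=
    fun a ha => IsUnit.mk0 _ fun h0 => ha ((hres a).mp h0)
  have hle : P.asIdeal ≤ RingHom.ker hRV := fun a ha => (hres a).mpr ha
  let ιP := Ideal.ResidueField.lift P.asIdeal hRV hle hu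
  have hcomp : ((IsLocalRing.residue V).comp (gL.codRestrict V.toSubring hVB)).comp f =
      ιP.comp ((algebraMap R P.asIdeal.ResidueField).comp g) := by
    ext a
    show IsLocalRing.residue V ⟨gL (f a), _⟩ = ιP (algebraMap R P.asIdeal.ResidueField (g a))
    rw [Ideal.ResidueField.lift_algebraMap (hf₂ := hu)]
    exact congrArg _ (Subtype.ext (RingHom.congr_fun hgL a))
  rw [hcomp, val_comp_field] at h1
  apply (η.map ιP).injective
  rw [h1, map_eta, Ideal.ResidueField.lift_algebraMap (hf₂ := hu)]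
  refine congrArg _ (congrArg _ (Subtype.ext ?_))
  show y = h' (algebraMap R K r)
  rw [hr, hyr]

section Field

theorem mem_M_of_field (K : Type u) [Field K] (x : η.N K) : x ∈ η.M K := by
  refine mem_M_of_exists_val η x fun R _ _ _ hR g => ?_
  let p₀ : PrimeSpectrum K := ⟨⊥, Ideal.isPrime_bot⟩
  obtain ⟨n, w, hw⟩ := η.exists_pow_mem_range_eta _ (x p₀)
  obtain ⟨a, ha⟩ := (Ideal.algEquivResidueFieldOfField p₀.asIdeal).surjective w
  have he : ∀ {E : Type u} [Field E] (h : K →+* E), val η h x ^ ringExpChar E ^ n =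
      η.eta E (h a) := by
    intro E _ h
    have hp : pt h = p₀ := PrimeSpectrum.ext ((RingHom.ker h).eq_bot_of_prime (h := RingHom.ker_isPrime h))
    have hu : p₀.asIdeal.primeCompl ≤ (IsUnit.submonoid E).comap h := fun b hb =>
      IsUnit.mk0 _ ((map_ne_zero h).mpr fun h0 => hb h0)
    rw [val_eq η h p₀ (Ideal.ResidueField.lift p₀.asIdeal h bot_le hu)
      (RingHom.ext fun b => Ideal.ResidueField.lift_algebraMap _ _ _ hu b), ← map_pow,
      show ringExpChar E = ringExpChar p₀.asIdeal.ResidueField from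
        ringExpChar_eq (Ideal.ResidueField.lift p₀.asIdeal h bot_le hu), ← hw, map_eta, ← ha]
    exact congrArg _ (Ideal.ResidueField.lift_algebraMap (hf₂ := hu) ..)
  let F := FractionRing R
  obtain ⟨r0, hr0⟩ := hR.2 (val η ((algebraMap R F).comp g) x)
  have hr0n : r0 ^ ringExpChar F ^ n = algebraMap R F (g a) := by
    apply hR.1
    rw [map_pow, hr0, he]
    rfl
  have hint : IsIntegral R r0 := by
    refine ⟨Polynomial.X ^ ringExpChar F ^ n - Polynomial.C (g a),
      Polynomial.monic_X_pow_sub_C _ (pow_ne_zero _ (expChar_pos F (ringExpChar F)).ne'), ?_⟩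
    simp only [Polynomial.eval₂_sub, Polynomial.eval₂_X_pow, Polynomial.eval₂_C]
    rw [hr0n]
    exact sub_self _
  obtain ⟨r, hr⟩ := IsIntegrallyClosed.isIntegral_iff.mp hint
  refine ⟨r, fun P => ?_⟩
  have hKF := ringExpChar_eq ((algebraMap R F).comp g)
  have hKP := ringExpChar_eq ((algebraMap R P.asIdeal.ResidueField).comp g)
  refine pow_inj n ?_
  have hobj : ringExpChar (η.obj P.asIdeal.ResidueField) = ringExpChar P.asIdeal.ResidueField :=
    ringExpChar_eq (η.eta _)
  rw [hobj, he, ← map_pow, ← map_pow]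
  have : r ^ ringExpChar F ^ n = g a := IsFractionRing.injective R F (by rw [map_pow, hr, hr0n])
  rw [hKP, ← hKF, this]
  rfl

end Field

section Ident

theorem residue_surjective_of_factor (f : A →+* B) (Q : PrimeSpectrum B)
    (h : Factor FieldEndo.ident.{u} f Q) :
    Function.Bijective
      (Ideal.ResidueField.map (PrimeSpectrum.comap f Q).asIdeal Q.asIdeal f rfl) := by
  obtain ⟨φ, hφ⟩ := h
  refine ⟨RingHom.injective _, fun w => ⟨φ w, φ.injective ?_⟩⟩
  exact RingHom.congr_fun hφ (φ w)

theorem bijective_Nmap_ident (f : A →+* B) (hc : Function.Bijective (PrimeSpectrum.comap f))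
    (hr : ∀ q : PrimeSpectrum B, Function.Bijective
      (Ideal.ResidueField.map (PrimeSpectrum.comap f q).asIdeal q.asIdeal f rfl)) :
    Function.Bijective (FieldEndo.ident.{u}.Nmap f) :=
  bijective_Nmap_of FieldEndo.ident.{u} f hc hr

theorem injPoints_of_residue_surjective (f : A →+* B)
    (hc : Function.Injective (PrimeSpectrum.comap f))
    (hr : ∀ q : PrimeSpectrum B, Function.Surjective
      (Ideal.ResidueField.map (PrimeSpectrum.comap f q).asIdeal q.asIdeal f rfl)) :
    Groth.Agent.UnivHomeo.Basic.InjPoints f := by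
  intro K _ g₁ g₂ hg
  have hQ : pt g₁ = pt g₂ := hc (PrimeSpectrum.ext (by
    show Ideal.comap f (RingHom.ker g₁) = Ideal.comap f (RingHom.ker g₂)
    rw [RingHom.comap_ker, RingHom.comap_ker, hg]))
  have hu : (pt g₁).asIdeal.primeCompl ≤ (IsUnit.submonoid K).comap g₂ := by
    rw [hQ]; exact primeCompl_le g₂
  let l₂ := Ideal.ResidueField.lift (pt g₁).asIdeal g₂ (by rw [hQ]; exact le_rfl) hu
  suffices h : ptLift g₁ = l₂ by
    ext b
    rw [← RingHom.congr_fun (ptLift_comp g₁) b, RingHom.comp_apply, h]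
    exact Ideal.ResidueField.lift_algebraMap (hf₂ := hu) ..
  refine RingHom.ext fun w => ?_
  obtain ⟨v, rfl⟩ := hr (pt g₁) w
  rw [← RingHom.comp_apply, ← RingHom.comp_apply]
  refine congrFun (congrArg DFunLike.coe (Ideal.ResidueField.ringHom_ext (RingHom.ext fun a => ?_))) v
  simp only [RingHom.comp_apply]
  erw [Ideal.ResidueField.map_algebraMap]
  rw [← RingHom.comp_apply (ptLift g₁), ptLift_comp, Ideal.ResidueField.lift_algebraMap (hf₂ := hu)]
  exact RingHom.congr_fun hg a

end Ident

end Groth.Agent.EtaPtLib.Rel
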