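import Groth.Agent.EtaPtLib.Rel

/-! `EtaPt.M` of a valuation ring and of a product. -/

set_option linter.style.haveILetI false

universe u

namespace Groth.Agent.EtaPtLib.Valn

open EtaPt Groth.Agent.EtaPtLib.Basic

variable (η : FieldEndo.{u})

theorem bijective_eta_bot {A : Type u} [CommRing A] [IsDomain A] (hA : η.InV A) :
    Function.Bijective (η.eta (⊥ : Ideal A).ResidueField) :=
  bijective_eta_of_equiv η (FractionRing.algEquiv A (⊥ : Ideal A).ResidueField).toRingEquiv hA

/-- the value at the generic point -/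
noncomputable abbrev bot (A : Type u) [CommRing A] [IsDomain A] : PrimeSpectrum A :=
  ⟨⊥, Ideal.isPrime_bot⟩

theorem eq_of_bot {A : Type u} [CommRing A] [IsDomain A] {x y : η.N A} (hx : x ∈ η.M A)
    (hy : y ∈ η.M A) (h : x (bot A) = y (bot A)) : x = y := by
  refine eq_of_minimalPrimes η hx hy fun p hp => ?_
  rw [IsDomain.minimalPrimes_eq_singleton_bot, Set.mem_singleton_iff] at hp
  obtain rfl : p = bot A := PrimeSpectrum.ext hp
  exact h

theorem exists_eq_t_of_bijective {A : Type u} [CommRing A] [IsDomain A] [IsIntegrallyClosed A]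
    (hA : η.InV A) (y : η.obj (bot A).asIdeal.ResidueField)
    (hy : ((η.eta _).comp (algebraMap A (bot A).asIdeal.ResidueField)).IsIntegralElem y) :
    ∃ r : A, η.t A r (bot A) = y := by
  obtain ⟨w, rfl⟩ := (bijective_eta_bot η hA).2 y
  have hw : IsIntegral A (w : (⊥ : Ideal A).ResidueField) := by
    obtain ⟨p, hp, hpy⟩ := hy
    refine ⟨p, hp, (η.eta _).injective ?_⟩
    rw [Polynomial.hom_eval₂, map_zero]
    exact hpy
  obtain ⟨r, rfl⟩ := IsIntegrallyClosed.isIntegral_iff.mp hw
  exact ⟨r, rfl⟩

theorem bijective_q_of_inV {A : Type u} [CommRing A] [IsDomain A] [IsIntegrallyClosed A]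
    (hA : η.InV A) : Function.Bijective (η.q A) := by
  refine ⟨fun a b h => t_injective η (congrArg Subtype.val h), fun x => ?_⟩
  obtain ⟨r, hr⟩ := exists_eq_t_of_bijective η hA _ (isIntegralElem_component η x.2 (bot A))
  exact ⟨r, Subtype.ext (eq_of_bot η (η.t_mem_M A r) x.2 hr)⟩

section Valuation

variable (R : Type u) [CommRing R] [IsDomain R] [ValuationRing R]

/-- the hypothesis used for valuation rings -/
def Good : Prop :=
  η.InV R ∨ ∀ (k : Type u) [Field k], ringChar k = ringChar R →
    Function.Bijective (η.eta k) → PerfectField k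

variable {R}

theorem bijective_eta_of_charZero (K : Type u) [Field K] [CharZero K] :
    Function.Bijective (η.eta K) := by
  refine ⟨RingHom.injective _, fun x => ?_⟩
  obtain ⟨n, hn⟩ := η.exists_pow_mem_range_eta K x
  rw [ringExpChar.eq_one, one_pow, pow_one] at hn
  exact hn

theorem exists_mem_M_of_integral (hη : Good η R) (y : η.obj (bot R).asIdeal.ResidueField)
    (hy : ((η.eta _).comp (algebraMap R (bot R).asIdeal.ResidueField)).IsIntegralElem y) :
    ∃ x ∈ η.M R, x (bot R) = y := by
  have key : η.InV R → ∃ x ∈ η.M R, x (bot R) = y := fun h => by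
    obtain ⟨r, hr⟩ := exists_eq_t_of_bijective η h y hy
    exact ⟨η.t R r, η.t_mem_M R r, hr⟩
  obtain hR | hperf := hη
  · exact key hR
  obtain hp | h0 := CharP.char_is_prime_or_zero R (ringChar R)
  swap
  · refine key ?_
    haveI : CharP R 0 := h0 ▸ ringChar.charP R
    haveI := CharP.charP_to_charZero R
    haveI : CharZero (FractionRing R) :=
      charZero_of_injective_ringHom (IsFractionRing.injective R (FractionRing R))
    exact bijective_eta_of_charZero η _
  set p := ringChar R with hpdef
  haveI : Fact p.Prime := ⟨hp⟩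
  have hchar : ∀ {E : Type u} [Field E] (_ : R →+* E), CharP E p ∧ ringExpChar E = p := by
    intro E _ h
    have hE : ringChar E = p := by
      refine ringChar.eq E p (C := ?_)
      refine (CharP.charP_iff_prime_eq_zero hp).mpr ?_
      have : (p : R) = 0 := CharP.cast_eq_zero R p
      rw [← map_natCast h, this, map_zero]
    haveI : CharP E p := hE ▸ ringChar.charP E
    exact ⟨inferInstance, ringExpChar.eq E p⟩
  have hperfect : ∀ {E : Type u} [Field E] (_ : R →+* E), Function.Bijective (η.eta E) →
      ∀ (n : ℕ) (x : E), ∃ z, z ^ p ^ n = x := by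
    intro E _ h hb n x
    haveI := (hchar h).1
    haveI : PerfectField E := hperf E (ringChar.eq E p) hb
    haveI : ExpChar E p := .prime hp
    obtain ⟨z, hz⟩ := (bijective_iterateFrobenius E p n).2 x
    exact ⟨z, hz⟩
  let K := (bot R).asIdeal.ResidueField
  obtain ⟨n, w, hw⟩ := η.exists_pow_mem_range_eta K y
  rw [(hchar (algebraMap R K)).2] at hw
  have hwint : IsIntegral R (w : (⊥ : Ideal R).ResidueField) := by
    letI : Algebra R (η.obj K) := ((η.eta K).comp (algebraMap R K)).toAlgebra
    have h : IsIntegral R (y ^ p ^ n) := (show IsIntegral R y from hy).pow _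
    rw [← hw] at h
    obtain ⟨q, hq, hqy⟩ := h
    refine ⟨q, hq, (η.eta _).injective ?_⟩
    rw [Polynomial.hom_eval₂, map_zero]
    exact hqy
  obtain ⟨r, hr⟩ := IsIntegrallyClosed.isIntegral_iff.mp hwint
  choose x hx using fun P : PrimeSpectrum R =>
    hperfect ((η.eta _).comp (algebraMap R P.asIdeal.ResidueField)) (bijective_eta_obj η _) n
      (η.eta P.asIdeal.ResidueField (algebraMap R _ r))
  have hval : ∀ {E : Type u} [Field E] (g : R →+* E), val η g x ^ p ^ n = η.eta E (g r) := by
    intro E _ g
    rw [← val_t η g r, ← map_pow]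
    congr 1
    funext P
    exact hx P
  refine ⟨x, mem_M_of_exists_val η x fun S _ _ _ hS g => ?_, ?_⟩
  · let F := FractionRing S
    let gF : R →+* F := (algebraMap S F).comp g
    obtain ⟨z, hz⟩ := hperfect gF hS n (gF r)
    have hzint : IsIntegral S z := by
      refine IsIntegral.of_pow (pow_pos hp.pos n) ?_
      rw [hz]
      exact isIntegral_algebraMap
    obtain ⟨s, hs⟩ := IsIntegrallyClosed.isIntegral_iff.mp hzint
    refine ⟨s, fun P => ?_⟩
    let gP : R →+* P.asIdeal.ResidueField := (algebraMap S P.asIdeal.ResidueField).comp g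
    have hobj : ringExpChar (η.obj P.asIdeal.ResidueField) = p :=
      (hchar ((η.eta _).comp gP)).2
    refine pow_inj n ?_
    rw [hobj, hval, ← map_pow, ← map_pow]
    have : s ^ p ^ n = g r := IsFractionRing.injective S F (by rw [map_pow, hs, hz]; rfl)
    rw [this]
    rfl
  · refine pow_inj n ?_
    rw [(hchar ((η.eta K).comp (algebraMap R K))).2, hx, ← hw]
    exact congrArg _ hr

theorem image_bot (hη : Good η R) :
    (fun x : η.N R => x (bot R)) '' (η.M R : Set (η.N R)) =
      {y | ((η.eta _).comp (algebraMap R (bot R).asIdeal.ResidueField)).IsIntegralElem y} := by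
  ext y
  refine ⟨?_, fun hy => ?_⟩
  · rintro ⟨x, hx, rfl⟩
    exact isIntegralElem_component η hx _
  · obtain ⟨x, hx, h⟩ := exists_mem_M_of_integral η hη y hy
    exact ⟨x, hx, h⟩

theorem integral_or_inv_integral (y : η.obj (bot R).asIdeal.ResidueField) :
    ((η.eta _).comp (algebraMap R (bot R).asIdeal.ResidueField)).IsIntegralElem y ∨
      (y ≠ 0 ∧
        ((η.eta _).comp (algebraMap R (bot R).asIdeal.ResidueField)).IsIntegralElem y⁻¹) := by
  letI : Algebra R (η.obj (bot R).asIdeal.ResidueField) :=
    ((η.eta _).comp (algebraMap R (bot R).asIdeal.ResidueField)).toAlgebra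
  by_cases hy0 : y = 0
  · exact Or.inl (hy0 ▸ (isIntegral_zero : IsIntegral R (0 : η.obj (bot R).asIdeal.ResidueField)))
  obtain ⟨n, w, hw⟩ := η.exists_pow_mem_range_eta _ y
  have hpos : 0 < ringExpChar (bot R).asIdeal.ResidueField ^ n :=
    pow_pos (expChar_pos (bot R).asIdeal.ResidueField _) n
  obtain ⟨r, hr⟩ | ⟨r, hr⟩ := ValuationRing.isInteger_or_isInteger R
    (w : (⊥ : Ideal R).ResidueField)
  · refine Or.inl (IsIntegral.of_pow (R := R) hpos ?_)
    rw [← hw]
    refine (congrArg (IsIntegral R) ?_).mpr (isIntegral_algebraMap (x := r))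
    exact congrArg _ hr.symm
  · refine Or.inr ⟨hy0, IsIntegral.of_pow (R := R) hpos ?_⟩
    rw [inv_pow, ← hw, ← map_inv₀]
    refine (congrArg (IsIntegral R) ?_).mpr (isIntegral_algebraMap (x := r))
    exact congrArg _ hr.symm

end Valuation

theorem bijOn_M_prod (A B : Type u) [CommRing A] [CommRing B] :
    Set.BijOn (fun x : η.N (A × B) => (η.Nmap (RingHom.fst A B) x, η.Nmap (RingHom.snd A B) x))
      (η.M (A × B)) ((η.M A : Set (η.N A)) ×ˢ (η.M B : Set (η.N B))) := by
  classical
  have hf : Function.Surjective (RingHom.fst A B) := fun a => ⟨(a, 0), rfl⟩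
  have hs : Function.Surjective (RingHom.snd A B) := fun b => ⟨(0, b), rfl⟩
  have hor : ∀ p : PrimeSpectrum (A × B), (∃ q, PrimeSpectrum.comap (RingHom.fst A B) q = p) ∨
      ∃ q, PrimeSpectrum.comap (RingHom.snd A B) q = p := by
    intro p
    obtain ⟨q | q, rfl⟩ := (PrimeSpectrum.primeSpectrumProd A B).symm.surjective p
    · exact Or.inl ⟨q, PrimeSpectrum.ext (by ext; simp [PrimeSpectrum.primeSpectrumProd])⟩
    · exact Or.inr ⟨q, PrimeSpectrum.ext (by ext; simp [PrimeSpectrum.primeSpectrumProd])⟩
  refine ⟨fun x hx => ⟨Nmap_mem_M η _ hx, Nmap_mem_M η _ hx⟩, fun x _ y _ hxy => funext fun p => ?_,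
    ?_⟩
  · obtain ⟨q, rfl⟩ | ⟨q, rfl⟩ := hor p
    · exact (η.map (Ideal.ResidueField.map _ q.asIdeal (RingHom.fst A B) rfl)).injective
        (congrFun (congrArg Prod.fst hxy) q)
    · exact (η.map (Ideal.ResidueField.map _ q.asIdeal (RingHom.snd A B) rfl)).injective
        (congrFun (congrArg Prod.snd hxy) q)
  rintro ⟨a, b⟩ ⟨ha, hb⟩
  have hfb : ∀ q : PrimeSpectrum A, Function.Bijective
      (η.map (Ideal.ResidueField.map (PrimeSpectrum.comap (RingHom.fst A B) q).asIdeal q.asIdeal
        (RingHom.fst A B) rfl)) := fun q =>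
    map_ringEquiv_bijective η (RingEquiv.ofBijective _
      ((RingHom.surjectiveOnStalks_of_surjective hf).residueFieldMap_bijective _ q.asIdeal rfl))
  have hsb : ∀ q : PrimeSpectrum B, Function.Bijective
      (η.map (Ideal.ResidueField.map (PrimeSpectrum.comap (RingHom.snd A B) q).asIdeal q.asIdeal
        (RingHom.snd A B) rfl)) := fun q =>
    map_ringEquiv_bijective η (RingEquiv.ofBijective _
      ((RingHom.surjectiveOnStalks_of_surjective hs).residueFieldMap_bijective _ q.asIdeal rfl))
  have hne : ∀ (q : PrimeSpectrum A) (q' : PrimeSpectrum B),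
      PrimeSpectrum.comap (RingHom.fst A B) q ≠ PrimeSpectrum.comap (RingHom.snd A B) q' := by
    intro q q' h
    have h1 : ((1, 0) : A × B) ∈ (PrimeSpectrum.comap (RingHom.snd A B) q').asIdeal := by simp
    rw [← h] at h1
    exact q.2.ne_top ((Ideal.eq_top_iff_one _).mpr h1)
  have hz : ∀ p : PrimeSpectrum (A × B), ∃ z : η.obj p.asIdeal.ResidueField,
      (∀ (q : PrimeSpectrum A) (h : PrimeSpectrum.comap (RingHom.fst A B) q = p),
        η.map (Ideal.ResidueField.map p.asIdeal q.asIdeal (RingHom.fst A B)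
          (congrArg PrimeSpectrum.asIdeal h).symm) z = a q) ∧
      ∀ (q : PrimeSpectrum B) (h : PrimeSpectrum.comap (RingHom.snd A B) q = p),
        η.map (Ideal.ResidueField.map p.asIdeal q.asIdeal (RingHom.snd A B)
          (congrArg PrimeSpectrum.asIdeal h).symm) z = b q := by
    intro p
    obtain ⟨q, rfl⟩ | ⟨q, rfl⟩ := hor p
    · obtain ⟨z, hz⟩ := (hfb q).2 (a q)
      refine ⟨z, fun q' h => ?_, fun q' h => absurd h.symm (hne q q')⟩
      obtain rfl := PrimeSpectrum.comap_injective_of_surjective _ hf h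
      exact hz
    · obtain ⟨z, hz⟩ := (hsb q).2 (b q)
      refine ⟨z, fun q' h => absurd h (hne q' q), fun q' h => ?_⟩
      obtain rfl := PrimeSpectrum.comap_injective_of_surjective _ hs h
      exact hz
  choose x hx₁ hx₂ using hz
  have ea : η.Nmap (RingHom.fst A B) x = a := funext fun q => hx₁ _ q rfl
  have eb : η.Nmap (RingHom.snd A B) x = b := funext fun q => hx₂ _ q rfl
  refine ⟨x, fun R _ _ _ hR g => ?_, Prod.ext ea eb⟩
  have hidem : g (1, 0) = 0 ∨ g (1, 0) = 1 :=
    IsIdempotentElem.iff_eq_zero_or_one.mp (by rw [IsIdempotentElem, ← map_mul]; simp)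
  obtain h0 | h1 := hidem
  · have hg1 : g (0, 1) = 1 := by
      have := map_one g
      rw [show (1 : A × B) = (1, 0) + (0, 1) by ext <;> simp, map_add, h0, zero_add] at this
      exact this
    let g' : B →+* R :=
      { toFun := fun v => g (0, v)
        map_one' := hg1
        map_mul' := fun v w => by rw [← map_mul]; simp
        map_zero' := map_zero g
        map_add' := fun v w => by rw [← map_add]; simp }
    have hgg : g = g'.comp (RingHom.snd A B) := RingHom.ext fun v => by
      show g v = g (0, v.2)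
      have : g v = g (v * ((0, 1) : A × B)) := by rw [map_mul, hg1, mul_one]
      rw [this]; congr 1; ext <;> simp
    rw [hgg, ← Nmap_comp, RingHom.comp_apply, eb]
    exact hb R hR g'
  · let g' : A →+* R :=
      { toFun := fun v => g (v, 0)
        map_one' := h1
        map_mul' := fun v w => by rw [← map_mul]; simp
        map_zero' := map_zero g
        map_add' := fun v w => by rw [← map_add]; simp }
    have hgg : g = g'.comp (RingHom.fst A B) := RingHom.ext fun v => by
      show g v = g (v.1, 0)
      have : g v = g (v * ((1, 0) : A × B)) := by rw [map_mul, h1, mul_one]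
      rw [this]; congr 1; ext <;> simp
    rw [hgg, ← Nmap_comp, RingHom.comp_apply, ea]
    exact ha R hR g'

end Groth.Agent.EtaPtLib.Valn
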